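import Cfsg.Agent.Lib.InvolLaced.Pivot
import Cfsg.Agent.Lib.ChevStr.Derived
import Cfsg.Agent.Lib.KnownSimple.ChevPSylow

/-!
Descent through the levels of a chain of fundamental roots: every involution is conjugate to a product
of root involutions of pairwise orthogonal roots.
-/

set_option autoImplicit false
set_option linter.unusedSectionVars false

namespace CfsgLib.InvolLaced

open Cfsg.Lie CfsgLib.ChevStr
open scoped MatrixGroups

variable {D : ChevalleyDatum} {F : Type*} [Field F] (C : ChevCore D F) (L : LRoot D)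
  [CharP F 2]

/-- The levels along a list of fundamental roots, each checked, ending with all of them peeled. -/
def chainCheck (D : ChevalleyDatum) : List (Fin D.rank) → List (Fin D.rank) → Bool
  | P, [] => (List.finRange D.rank).all fun i => decide (i ∈ P)
  | P, a :: rest => (⟨P, a⟩ : Lev D).check && chainCheck D (a :: P) rest

/-- The positive roots without coefficients at a list of fundamental roots. -/
def posP (P : List (Fin D.rank)) (r : Fin D.nroots) : Prop :=
  D.IsPosRoot r.val ∧ ∀ j ∈ P, cv D r j = 0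

include C L in
theorem deg_nonneg {r : Fin D.nroots} (h : D.IsPosRoot r.val) (a : Fin D.rank) :
    0 ≤ cv D r a := by
  have h1 := ((C.R.isPos_iff r.val).1 h).2 a
  rw [α_eq_cv C L r] at h1
  exact h1

theorem levGroup_le (V : Lev D) : levGroup C V ≤ D.group F := by
  refine sup_le ((Subgroup.closure_le _).2 ?_) ?_
  · rintro g ⟨r, -, t, rfl⟩
    exact C.xGL_mem_group r t
  · rintro _ ⟨c, rfl⟩
    exact C.borel_le_group (C.torus_mem_borel c)

theorem levGroup_mono {V W : Lev D} (h : ∀ r, V.pz r → W.pz r) : levGroup C V ≤ levGroup C W := by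
  refine sup_le ((Subgroup.closure_le _).2 ?_) le_sup_right
  rintro g ⟨r, hr, t, rfl⟩
  exact xGL_mem_levGroup C (h r hr) t

include L in
/-- The next Levi subgroup normalises the layer. -/
theorem levGroup_conj {V : Lev D} {W : Lev D} (hW : W.P = V.a :: V.P) {h : GL D.Idx F}
    (hh : h ∈ levGroup C W) {g : GL D.Idx F} (hg : g ∈ UP C V.inQ) :
    h * g * h⁻¹ ∈ UP C V.inQ := by
  have key : levGroup C W ≤ Subgroup.normalizer (UP C V.inQ : Set (GL D.Idx F)) := by
    refine sup_le ((Subgroup.closure_le _).2 ?_) (C.torus_normalizes _)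
    rintro x ⟨r, hr, t, rfl⟩
    have hM : V.inM r :=
      ⟨fun j hj => hr j (by rw [hW]; exact List.mem_cons_of_mem _ hj),
        hr V.a (by rw [hW]; exact List.mem_cons_self ..)⟩
    have hself : (C.xGL r t)⁻¹ = C.xGL r t := by rw [C.xGL_inv, CharTwo.neg_eq]
    refine Subgroup.mem_normalizer_iff.2 fun y => ⟨fun hy => conj_M_mem_Q C L hM t hy, fun hy => ?_⟩
    have := conj_M_mem_Q C L hM t hy
    rw [hself] at this
    simpa [mul_assoc, xGL_mul_self C, ← mul_assoc (C.xGL r t) (C.xGL r t)] using this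
  exact (Subgroup.mem_normalizer_iff.1 (key hh) g).1 hg

include L in
/-- Decomposition along a level. -/
theorem exists_mul {P : List (Fin D.rank)} {a : Fin D.rank} {g : GL D.Idx F}
    (hg : g ∈ UP C (posP P)) :
    ∃ m ∈ UP C (posP (a :: P)), ∃ q ∈ UP C (Lev.inQ ⟨P, a⟩), g = m * q := by
  have hn : UP C (posP (a :: P)) ≤
      Subgroup.normalizer (UP C (Lev.inQ ⟨P, a⟩) : Set (GL D.Idx F)) := by
    refine UP_le C fun r hr t => ?_
    have hM : Lev.inM ⟨P, a⟩ r :=
      ⟨fun j hj => hr.2 j (List.mem_cons_of_mem _ hj), hr.2 a (List.mem_cons_self ..)⟩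
    have hself : (C.xGL r t)⁻¹ = C.xGL r t := by rw [C.xGL_inv, CharTwo.neg_eq]
    refine Subgroup.mem_normalizer_iff.2 fun y => ⟨fun hy => conj_M_mem_Q C L hM t hy, fun hy => ?_⟩
    have := conj_M_mem_Q C L hM t hy
    rw [hself] at this
    simpa [mul_assoc, xGL_mul_self C, ← mul_assoc (C.xGL r t) (C.xGL r t)] using this
  have hle : UP C (posP P) ≤ UP C (posP (a :: P)) ⊔ UP C (Lev.inQ ⟨P, a⟩) := by
    refine UP_le C fun r hr t => ?_
    rcases (deg_nonneg C L hr.1 a).eq_or_lt with he | hlt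
    · refine le_sup_left (b := UP C (Lev.inQ ⟨P, a⟩)) (mem_UP C ⟨hr.1, ?_⟩ t)
      intro j hj
      rcases List.mem_cons.1 hj with rfl | hj
      · exact he.symm
      · exact hr.2 j hj
    · exact le_sup_right (a := UP C (posP (a :: P))) (mem_UP C ⟨hr.2, by
        show (1 : ℤ) ≤ cv D r a
        omega⟩ t)
  obtain ⟨m, hm, q, hq, rfl⟩ := (Set.ext_iff.1
    (Subgroup.coe_mul_of_left_le_normalizer_right _ _ hn) g).1 (hle hg)
  exact ⟨m, hm, q, hq, rfl⟩

include L in
theorem closed_posP (P : List (Fin D.rank)) : C.R.IsClosed (natSet (posP (D := D) P)) :=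
  isClosed_natSet C L (fun _ h => h.1) fun r s k hr hs _ h => by
    refine ⟨(C.R.isPos_iff k.val).2 ?_, fun j hj => by rw [h, Pi.add_apply, hr.2 j hj, hs.2 j hj, add_zero]⟩
    have h1 := ((C.R.isPos_iff r.val).1 hr.1).2
    have h2 := ((C.R.isPos_iff s.val).1 hs.1).2
    refine ⟨k.isLt, fun i => ?_⟩
    rw [α_eq_cv C L r] at h1
    rw [α_eq_cv C L s] at h2
    rw [α_eq_cv C L k, h, Pi.add_apply]
    exact add_nonneg (h1 i) (h2 i)

include L in
theorem inter_eq_one {P : List (Fin D.rank)} {a : Fin D.rank} {g : GL D.Idx F}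
    (h1 : g ∈ UP C (posP (a :: P))) (h2 : g ∈ UP C (Lev.inQ ⟨P, a⟩)) : g = 1 := by
  have h := C.Ucl_inf (closed_posP C L (a :: P)) (closed_Q C L (V := ⟨P, a⟩)) h1 h2
  have hle : C.Ucl (natSet (posP (a :: P)) ∩ natSet (Lev.inQ ⟨P, a⟩)) ≤ ⊥ := by
    refine C.Ucl_le ?_
    rintro r ⟨⟨hr, hp⟩, ⟨_, hq⟩⟩ t
    have h3 : cv D r a = 0 := hp.2 a (List.mem_cons_self ..)
    have h4 : (1 : ℤ) ≤ cv D r a := hq.2
    omega
  simpa using hle h

include L in
/-- The descent. -/
theorem exists_orth_aux [Finite F] : ∀ (rest P : List (Fin D.rank)), chainCheck D P rest = true →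
    ∀ g ∈ UP C (posP (D := D) P), g * g = 1 →
      ∃ h ∈ D.group F, (∀ a, h ∈ levGroup C (⟨P, a⟩ : Lev D)) ∧
        ∃ Ls : List (Fin D.nroots), (∀ r ∈ Ls, ∀ j ∈ P, cv D r j = 0) ∧
          Ls.Pairwise (fun a b : Fin D.nroots => ip D a b = 0) ∧
          h * g * h⁻¹ = wprod C (Ls.map Fin.val) := by
  intro rest
  induction rest with
  | nil =>
    intro P hP g hg _
    have hnil : ∀ r : Fin D.nroots, ¬ posP P r := by
      intro r hr
      simp only [chainCheck, List.all_eq_true, List.mem_finRange, true_implies,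
        decide_eq_true_eq] at hP
      exact ip_ne_zero_of_self C L r (funext fun i => hr.2 i (hP i))
    rw [eq_one_of_empty C hnil hg]
    exact ⟨1, one_mem _, fun _ => one_mem _, [], by simp, List.Pairwise.nil, by simp [wprod_nil]⟩
  | cons a rest ih =>
    intro P hP g hg hg2
    simp only [chainCheck, Bool.and_eq_true] at hP
    obtain ⟨hc, hrest⟩ := hP
    set V : Lev D := ⟨P, a⟩ with hVdef
    have hV : V.Good := Lev.Good.ofCheck (V := V) hc
    obtain ⟨m, hm, q, hq, rfl⟩ := exists_mul C L (a := a) hg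
    have hm2 : m * m = 1 := by
      refine inter_eq_one C L (a := a) (P := P) (mul_mem hm hm) ?_
      have h1 : m⁻¹ * q * m⁻¹⁻¹ ∈ UP C V.inQ := by
        have hle : UP C (posP (a :: P)) ≤ levGroup C ⟨a :: P, a⟩ :=
          UP_le C fun r hr t => xGL_mem_levGroup C (V := ⟨a :: P, a⟩) hr.2 t
        exact levGroup_conj C L (V := V) (W := ⟨a :: P, a⟩) rfl (hle (inv_mem hm)) hq
      rw [inv_inv] at h1
      have h2 : m * m = (m⁻¹ * q * m * q)⁻¹ := by
        refine eq_inv_of_mul_eq_one_left ?_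
        calc m * m * (m⁻¹ * q * m * q) = m * q * (m * q) := by group
          _ = 1 := hg2
      rw [h2]
      exact inv_mem (mul_mem h1 hq)
    obtain ⟨h, hh, hhW, Ls, hLs, hLp, he⟩ := ih (a :: P) hrest m hm hm2
    set l := wprod C (Ls.map Fin.val) with hl
    set q' := h * q * h⁻¹ with hq'
    have hq'Q : q' ∈ UP C V.inQ := levGroup_conj C L (V := V) rfl (hhW a) hq
    have hM : ∀ b ∈ Ls, V.inM b := fun b hb =>
      ⟨fun j hj => hLs b hb j (List.mem_cons_of_mem _ hj), hLs b hb a (List.mem_cons_self ..)⟩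
    have hge : h * (m * q) * h⁻¹ = l * q' := by rw [← he, hq']; group
    have hsq : l * q' * (l * q') = 1 := by
      rw [← hge]
      calc h * (m * q) * h⁻¹ * (h * (m * q) * h⁻¹) = h * (m * q * (m * q)) * h⁻¹ := by group
        _ = 1 := by rw [hg2]; group
    obtain ⟨y, hy, v', hv', hye⟩ := exists_clear C L hV hM hLp hq'Q hsq
    have hcomm : Commute l v' := by
      refine Commute.list_prod_left _ _ fun x hx => ?_
      obtain ⟨r, hr, rfl⟩ := List.mem_map.1 hx
      obtain ⟨b, hb, rfl⟩ := List.mem_map.1 hr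
      exact commute_UP C L (fun x hx => le_of_eq (hx.2 b hb).symm) 1 hv'
    have hl2 : l * l = 1 := wprod_mul_self C L (orthL_map hLp)
    have hv'2 : v' * v' = 1 := by
      have h1 : l * v' * (l * v') = 1 := by
        rw [← hye]
        calc y * (l * q') * y⁻¹ * (y * (l * q') * y⁻¹) = y * (l * q' * (l * q')) * y⁻¹ := by group
          _ = 1 := by rw [hsq]; group
      calc v' * v' = l * l * (v' * v') := by rw [hl2, one_mul]
        _ = l * (l * v') * v' := by simp only [mul_assoc]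
        _ = l * (v' * l) * v' := by rw [hcomm.eq]
        _ = l * v' * (l * v') := by simp only [mul_assoc]
        _ = 1 := h1
    obtain ⟨h₂, hh₂, hc₂, L', hL', hL'p, he₂⟩ :=
      exists_pivot C L hV Ls (fun b hb => (hM b hb).1) hv' hv'2
    have hc₂l : Commute h₂ l := by
      refine Commute.list_prod_right _ _ fun x hx => ?_
      obtain ⟨r, hr, rfl⟩ := List.mem_map.1 hx
      obtain ⟨b, hb, rfl⟩ := List.mem_map.1 hr
      exact hc₂ b hb 1
    have hyV : ∀ b, y ∈ levGroup C (⟨P, b⟩ : Lev D) := fun b =>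
      UP_le C (fun r hr t => xGL_mem_levGroup C (V := ⟨P, b⟩) hr.1 t) hy
    have hhV : ∀ b, h ∈ levGroup C (⟨P, b⟩ : Lev D) := fun b =>
      levGroup_mono C (V := ⟨a :: P, b⟩) (W := ⟨P, b⟩)
        (fun r hr j hj => hr j (List.mem_cons_of_mem _ hj)) (hhW b)
    have hh₂V : ∀ b, h₂ ∈ levGroup C (⟨P, b⟩ : Lev D) := fun b =>
      levGroup_mono C (V := V) (W := ⟨P, b⟩) (fun _ hr => hr) hh₂
    refine ⟨h₂ * y * h, levGroup_le C ⟨P, a⟩ (mul_mem (mul_mem (hh₂V a) (hyV a)) (hhV a)),
      fun b => mul_mem (mul_mem (hh₂V b) (hyV b)) (hhV b), Ls ++ L', fun r hr j hj => ?_, ?_, ?_⟩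
    · rcases List.mem_append.1 hr with hr | hr
      · exact (hM r hr).1 j hj
      · exact (hL' r hr).1.1 j hj
    · exact List.pairwise_append.2 ⟨hLp, hL'p, fun x hx y hy => (hL' y hy).2 x hx⟩
    · rw [List.map_append, wprod_append, ← hl, ← he₂]
      calc h₂ * y * h * (m * q) * (h₂ * y * h)⁻¹
          = h₂ * (y * (h * (m * q) * h⁻¹) * y⁻¹) * h₂⁻¹ := by group
        _ = h₂ * l * h₂⁻¹ * (h₂ * v' * h₂⁻¹) := by rw [hge, hl, hye]; group
        _ = l * (h₂ * v' * h₂⁻¹) := by rw [hc₂l.eq, mul_inv_cancel_right]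

include L in
/-- Every involution is conjugate to a product over a nonempty orthogonal set of roots. -/
theorem exists_orth [Finite F] {rest : List (Fin D.rank)} (hc : chainCheck D [] rest = true)
    {g : GL D.Idx F} (hg : g ∈ D.group F) (ho : orderOf g = 2) :
    ∃ T : List ℕ, OrthL D T ∧ T ≠ [] ∧ Rel C g (wprod C T) := by
  cases nonempty_fintype F
  have : Fact (Nat.Prime 2) := ⟨Nat.prime_two⟩
  have hU : IsPGroup 2 (Subgroup.zpowers g) :=
    IsPGroup.of_card (n := 1) (by rw [Nat.card_zpowers, ho, pow_one])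
  obtain ⟨k, hk, hku⟩ := CfsgLib.KnownSimple.ChevPSylow.exists_conj_le_posUnipotent C 2
    (Subgroup.zpowers_le.2 hg) hU
  have hgg : g * g = 1 := by rw [← sq, ← ho, pow_orderOf_eq_one]
  have hg1 : g ≠ 1 := fun e => by rw [e, orderOf_one] at ho; exact absurd ho (by norm_num)
  have hmem : k⁻¹ * g * k ∈ UP C (posP (D := D) []) := by
    have := hku g (Subgroup.mem_zpowers g)
    rw [C.posUnipotent_eq] at this
    exact C.Ucl_mono (S := {r | D.IsPosRoot r}) (T := natSet (posP (D := D) []))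
      (fun r hr => ⟨hr.1, hr, fun j hj => absurd hj List.not_mem_nil⟩) this
  obtain ⟨h, hh, -, Ls, -, hLp, he⟩ := exists_orth_aux C L rest [] hc _ hmem (by
    calc k⁻¹ * g * k * (k⁻¹ * g * k) = k⁻¹ * (g * g) * k := by group
      _ = 1 := by rw [hgg]; group)
  have hrel : Rel C g (wprod C (Ls.map Fin.val)) :=
    ⟨h * k⁻¹, mul_mem hh (inv_mem hk), by rw [← he]; group⟩
  refine ⟨Ls.map Fin.val, orthL_map hLp, fun e => hg1 ?_, hrel⟩
  obtain ⟨z, -, hz⟩ := hrel
  rw [e, wprod_nil] at hz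
  calc g = z⁻¹ * (z * g * z⁻¹) * z := by group
    _ = 1 := by rw [hz]; group

end CfsgLib.InvolLaced
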