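import Cfsg.Agent.Lib.InvolLaced.Moves
import Cfsg.Agent.Lib.Chev.Comm

/-!
The checks of the root table and of the extension words evaluated on the fast tables of a certificate.
-/

set_option autoImplicit false

namespace CfsgLib.InvolLaced

open Cfsg.Lie

/-- The coefficient read off the fast tables. -/
def cvT (T : Chev.Data) (r i : ℕ) : ℤ := (T.row r).cor.getD i 0

/-- The Cartan integer read off the fast tables. -/
def carT (T : Chev.Data) (i s : ℕ) : ℤ := (T.row s).car.getD i 0

/-- The form of two rows. -/
def dotL : List ℤ → List ℤ → ℤ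
  | a :: as, b :: bs => a * b + dotL as bs
  | _, _ => 0

theorem dotL_eq : ∀ (n : ℕ) (as bs : List ℤ), as.length = n → bs.length = n →
    dotL as bs = ∑ i : Fin n, as.getD i.val 0 * bs.getD i.val 0 := by
  intro n
  induction n with
  | zero =>
    intro as bs ha hb
    simp [List.eq_nil_of_length_eq_zero ha, dotL]
  | succ n ih =>
    intro as bs ha hb
    match as, bs, ha, hb with
    | a :: as, b :: bs, ha, hb =>
      rw [dotL, ih as bs (by simpa using ha) (by simpa using hb), Fin.sum_univ_succ]
      simp

/-- The form read off the fast tables. -/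
def ipT (T : Chev.Data) (r s : ℕ) : ℤ := dotL (T.row r).cor (T.row s).car

/-- The shape of the commutator formula on the fast tables. -/
def pairT (T : Chev.Data) (p s : ℕ) : Bool :=
  Nat.beq s p || Nat.beq s (T.row p).neg ||
    (let a := ipT T p s
    (decide (0 ≤ a) && decide (a ≤ 1) && (T.commFast p s).isEmpty) ||
    (decide (a = -1) &&
      match T.commFast p s with
      | [(k, c, 1, 1)] => decide (k < T.n) && decide (c % 2 = 1) &&
          (List.range T.l).all fun i => decide (cvT T k i = cvT T p i + cvT T s i)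
      | _ => false))

/-- The key of a coefficient list. -/
def keyT (T : Chev.Data) (r : ℕ) : ℤ := (T.row r).cor.foldl (fun k c => 64 * k + c) 0

/-- The checks of a simply laced datum on the fast tables. -/
def lacedCheckT (T : Chev.Data) : Bool :=
  let ix := List.range T.l
  let N := List.range T.n
  (ix.all fun i => ix.all fun j =>
    decide (carT T i (T.simp' j) = carT T j (T.simp' i)) &&
      decide (cvT T (T.simp' i) j = if j = i then 1 else 0)) &&
  (N.all fun s =>
    (ix.all fun i =>
      decide (cvT T (T.row s).neg i = -cvT T s i) &&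
      decide (carT T i s = dotL (T.row s).cor (ix.map fun j => carT T i (T.simp' j))) &&
      (ix.all fun j =>
        decide (cvT T (T.piRoot i s) j = cvT T s j - if j = i then carT T i s else 0)))) &&
  (N.all fun s => decide (T.n ≤ s + 1) || decide (keyT T s < keyT T (s + 1))) &&
  (ix.all fun i => N.all fun s => pairT T (T.simp' i) s)

/-- A word in fundamental reflections applied to a root, on the fast tables. -/
def applyT (T : Chev.Data) (w : List ℕ) (r : ℕ) : ℕ := w.foldl (fun s i => T.piRoot i s) r

/-- The extension check on the fast tables. -/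
def extCheckT (T : Chev.Data) (reps : List (List ℕ)) (cert : List (List (ℕ × List ℕ))) : Bool :=
  (reps.getD 0 [0]).isEmpty &&
  (reps.all fun R => R.all fun b => decide (b < T.n)) &&
  (List.range reps.length).all fun k =>
    let R := reps.getD k []
    let row := cert.getD k []
    (List.range T.n).all fun g =>
      !(R.all fun b => decide (ipT T g b = 0)) ||
        match row.getD g (reps.length, []) with
        | (k', w) => decide (k' < reps.length) && w.all (fun i => decide (i < T.l)) &&
            ((g :: R).map (applyT T w)).isPerm (reps.getD k' [])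

variable {D : ChevalleyDatum} (K : Chev.Cert D)

include K in
theorem cv_eq {r : ℕ} (hr : r < D.nroots) (i : Fin D.rank) : cv D r i = cvT K.T r i := by
  rw [← K.hv.hn] at hr
  exact K.hv.cor_eq r hr i

include K in
theorem cartan_eq {i s : ℕ} (hi : i < D.rank) (hs : s < D.nroots) :
    D.cartan i s = carT K.T i s := by
  rw [← K.hv.hn] at hs
  rw [← K.hv.hl] at hi
  exact K.hv.car_eq s hs i hi

include K in
theorem ip_fast {r s : ℕ} (hr : r < D.nroots) (hs : s < D.nroots) :
    ip D r s = ipT K.T r s := by
  rw [ipT, dotL_eq D.rank _ _ (by rw [K.hv.cor_len r (K.hv.hn ▸ hr), K.hv.hl])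
    (by rw [K.hv.car_len s (K.hv.hn ▸ hs), K.hv.hl])]
  exact Finset.sum_congr rfl fun i _ => by rw [cv_eq K hr, cartan_eq K i.isLt hs]; rfl

include K in
theorem refl_fast {i s : ℕ} (hi : i < D.rank) (hs : s < D.nroots) :
    D.reflectRoot i s = K.T.piRoot i s ∧ K.T.piRoot i s < D.nroots := by
  rw [← K.hv.hn] at hs ⊢
  rw [← K.hv.hl] at hi
  exact ⟨K.reflectRoot_eq hi hs, (K.piRoot_spec hi hs).1⟩

include K in
theorem applyW_fast : ∀ (w : List ℕ) {r : ℕ}, (∀ i ∈ w, i < D.rank) → r < D.nroots →
    applyW D w r = applyT K.T w r := by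
  intro w
  induction w with
  | nil => intros; rfl
  | cons i w ih =>
    intro r hw hr
    obtain ⟨h1, h2⟩ := refl_fast K (hw i (List.mem_cons_self ..)) hr
    show applyW D w (D.reflectRoot i r) = applyT K.T w (K.T.piRoot i r)
    rw [h1]
    exact ih (fun j hj => hw j (List.mem_cons_of_mem _ hj)) h2

include K in
theorem extCheck_of_fast {reps : List (List ℕ)} {cert : List (List (ℕ × List ℕ))}
    (h : extCheckT K.T reps cert = true) : extCheck D reps cert = true := by
  simp only [extCheckT, Bool.and_eq_true, List.all_eq_true, List.mem_range, decide_eq_true_eq,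
    K.hv.hn] at h
  obtain ⟨⟨h0, hlt⟩, h⟩ := h
  simp only [extCheck, Bool.and_eq_true, List.all_eq_true, List.mem_range]
  refine ⟨h0, fun k hk g hg => ?_⟩
  have hR : ∀ b ∈ reps.getD k [], b < D.nroots := by
    rw [List.getD_eq_getElem _ _ hk]
    exact hlt _ (List.getElem_mem _)
  have hc : ((reps.getD k []).all fun b => decide (ip D g b = 0)) =
      (reps.getD k []).all fun b => decide (ipT K.T g b = 0) := by
    rw [Bool.eq_iff_iff, List.all_eq_true, List.all_eq_true]
    constructor
    · intro hh b hb
      simpa [ip_fast K hg (hR b hb)] using hh b hb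
    · intro hh b hb
      simpa [ip_fast K hg (hR b hb)] using hh b hb
  have h' := h k hk g hg
  rw [hc]
  simp only [Bool.or_eq_true, Bool.not_eq_true'] at h' ⊢
  refine h'.imp id ?_
  obtain ⟨k', w, he⟩ : ∃ k' w, (cert.getD k []).getD g (reps.length, []) = (k', w) := ⟨_, _, rfl⟩
  rw [he]
  simp only [Bool.and_eq_true, decide_eq_true_eq, List.all_eq_true, K.hv.hl]
  rintro ⟨⟨hk', hw⟩, hperm⟩
  refine ⟨⟨hk', hw⟩, ?_⟩
  rwa [show (g :: reps.getD k []).map (applyW D w) = (g :: reps.getD k []).map (applyT K.T w) from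
    List.map_congr_left fun x hx => applyW_fast K w hw (by
      rcases List.mem_cons.1 hx with rfl | hx
      · exact hg
      · exact hR x hx)]

include K in
theorem key_fast {r : ℕ} (hr : r < D.nroots) : ChevStr.vecKey (cv D r) = keyT K.T r := by
  have key : ∀ (n : ℕ) (as : List ℤ) (k : ℤ), as.length = n →
      as.foldl (fun k c => 64 * k + c) k =
        k * 64 ^ n + ∑ i : Fin n, as.getD i.val 0 * 64 ^ (n - 1 - i.val) := by
    intro n
    induction n with
    | zero => intro as k ha; simp [List.eq_nil_of_length_eq_zero ha]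
    | succ n ih =>
      intro as k ha
      match as, ha with
      | a :: as, ha =>
        rw [List.foldl_cons, ih as _ (by simpa using ha), Fin.sum_univ_succ]
        simp only [List.getD_cons_zero, List.getD_cons_succ, Fin.val_zero, Fin.val_succ,
          Nat.add_sub_cancel, Nat.sub_zero]
        rw [show (∑ x : Fin n, as.getD x.val 0 * (64 : ℤ) ^ (n - (x.val + 1))) =
            ∑ x : Fin n, as.getD x.val 0 * (64 : ℤ) ^ (n - 1 - x.val) from
          Finset.sum_congr rfl fun x _ => by rw [show n - (x.val + 1) = n - 1 - x.val by omega]]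
        ring
  rw [keyT, key D.rank _ 0 (by rw [K.hv.cor_len r (K.hv.hn ▸ hr), K.hv.hl]), zero_mul, zero_add]
  exact Finset.sum_congr rfl fun i _ => by rw [cv_eq K hr]; rfl

include K in
/-- The facts of a simply laced datum from the fast check. -/
theorem LRoot.ofFast (h : lacedCheckT K.T = true) : LRoot D := by
  simp only [lacedCheckT, Bool.and_eq_true, Bool.or_eq_true, List.all_eq_true, List.mem_range,
    decide_eq_true_eq, K.hv.hn, K.hv.hl] at h
  obtain ⟨⟨⟨h1, h2⟩, h3⟩, h4⟩ := h
  have hs : ∀ i : Fin D.rank, D.simple i.val = K.T.simp' i.val ∧ D.simple i.val < D.nroots :=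
    fun i => ⟨K.hv.simple_eq i, by
      rw [K.hv.simple_eq, ← K.hv.hn]
      exact K.hv.simple_lt i (by rw [K.hv.hl]; exact i.isLt)⟩
  have hn : ∀ s < D.nroots, D.neg s = (K.T.row s).neg ∧ (K.T.row s).neg < D.nroots := fun s hs => by
    rw [← K.hv.hn] at hs ⊢
    exact ⟨(K.hv.neg_eq s hs).symm, K.hv.neg_lt s hs⟩
  refine
    { sym := fun i j => ?_
      cv_simple := fun i => funext fun j => ?_
      cv_neg := fun s hlt => funext fun i => ?_
      cartan_cv := fun i s hlt => ?_
      cv_refl := fun i s hlt => funext fun j => ?_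
      key_succ := fun s hlt => ?_
      pair := fun i s hlt => ?_ }
  · rw [cartan_eq K i.isLt (hs j).2, cartan_eq K j.isLt (hs i).2, (hs i).1, (hs j).1]
    exact (h1 i i.isLt j j.isLt).1
  · rw [cv_eq K (hs i).2, (hs i).1, Pi.single_apply, (h1 i i.isLt j j.isLt).2]
    simp [Fin.val_inj]
  · rw [(hn s hlt).1, cv_eq K (hn s hlt).2, Pi.neg_apply, cv_eq K hlt]
    exact ((h2 s hlt) i i.isLt).1.1
  · rw [cartan_eq K i.isLt hlt, ((h2 s hlt) i i.isLt).1.2,
      dotL_eq D.rank _ _ (by rw [K.hv.cor_len s (K.hv.hn ▸ hlt), K.hv.hl]) (by simp)]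
    refine Finset.sum_congr rfl fun j _ => ?_
    rw [cv_eq K hlt, cartan_eq K i.isLt (hs j).2, (hs j).1]
    congr 1
    simp [List.getD, j.isLt]
  · obtain ⟨hr1, hr2⟩ := refl_fast K i.isLt hlt
    rw [hr1, cv_eq K hr2, (h2 s hlt i i.isLt).2 j j.isLt, Pi.sub_apply, Pi.smul_apply,
      Pi.single_apply, cv_eq K hlt, cartan_eq K i.isLt hlt]
    simp [Fin.val_inj]
  · have := (h3 s (Nat.lt_of_succ_lt hlt)).resolve_left (by omega)
    rwa [key_fast K (Nat.lt_of_succ_lt hlt), key_fast K hlt]
  · have hp := h4 i i.isLt s hlt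
    obtain ⟨hsi, hsl⟩ := hs i
    rw [pairB, (hn _ hsl).1, ip_fast K hsl hlt,
      K.hv.commTerms_eq (K.hv.hn ▸ hsl) (K.hv.hn ▸ hlt), hsi]
    simp only [pairT] at hp
    simp only [Bool.or_eq_true, Bool.and_eq_true] at hp ⊢
    rcases hp with (hp | hp) | hp | ⟨ha, hm⟩
    · exact Or.inl (Or.inl (Or.inl hp))
    · exact Or.inl (Or.inl (Or.inr hp))
    · exact Or.inl (Or.inr hp)
    · refine Or.inr ⟨ha, ?_⟩
      split at hm
      · next k c heq =>
        simp only [Bool.and_eq_true, decide_eq_true_eq, List.all_eq_true, List.mem_range,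
          K.hv.hn, K.hv.hl] at hm
        simp only [heq, Bool.and_eq_true, decide_eq_true_eq, List.all_eq_true, List.mem_finRange,
          true_implies]
        refine ⟨hm.1, fun j => ?_⟩
        rw [cv_eq K hm.1.1, cv_eq K (hsi ▸ hsl), cv_eq K hlt]
        exact hm.2 j j.isLt
      · exact absurd hm (by simp)

end CfsgLib.InvolLaced
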