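import Cfsg.Agent.Lib.InvolLaced.Moves
import Cfsg.Agent.Lib.Chev.Comm

/-!
The rank of `g - 1` for products of root involutions, from a reduced echelon certificate of masks.
-/

set_option autoImplicit false

namespace CfsgLib.InvolLaced

open Cfsg.Lie CfsgLib.ChevStr Matrix
open scoped MatrixGroups

/-- The mask of a sparse vector modulo two. -/
def maskV : List Chev.Term → ℕ
  | [] => 0
  | e :: es => Nat.xor (if e.c % 2 = 0 then 0 else 2 ^ e.row) (maskV es)

/-- The mask of a column of `w - 1`. -/
def colMask (T : Chev.Data) (rs : List ℕ) (c : ℕ) : ℕ :=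
  Nat.xor (maskV (T.applyW (rs.map fun r => (⟨r, 1, 0, 0⟩ : Chev.Letter)) (Chev.unitVec c))) (2 ^ c)

/-- The sum of the masks with the listed numbers. -/
def xorPick (cols : List ℕ) : List ℕ → ℕ
  | [] => 0
  | c :: cs => Nat.xor (cols.getD c 0) (xorPick cols cs)

/-- The sum of the echelon vectors selected by the pivot bits. -/
def xorPivot (a : ℕ) : List (ℕ × ℕ × List ℕ) → ℕ
  | [] => 0
  | e :: es => bif a.testBit e.1 then Nat.xor e.2.1 (xorPivot a es) else xorPivot a es

/-- The rank certificate: the columns, and the echelon vectors with pivot and combination. -/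
def rankCheck (T : Chev.Data) (rs cols : List ℕ) (ech : List (ℕ × ℕ × List ℕ)) : Bool :=
  (rs.all fun r => decide (r < T.n)) &&
  decide ((List.range T.rowsN).map (colMask T rs) = cols) &&
  ((List.range ech.length).all fun i =>
    match ech.getD i (0, 0, []) with
    | (p, v, k) => decide (p < T.rowsN) && (k.all fun c => decide (c < T.rowsN)) &&
        decide (xorPick cols k = v) &&
        (List.range ech.length).all fun j =>
          decide ((ech.getD j (0, 0, [])).2.1.testBit p = decide (j = i))) &&
  cols.all fun a => decide (xorPivot a ech = a)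

section Rank

variable {D : ChevalleyDatum} {F : Type*} [Field F] [CharP F 2]

/-- The vector of a mask. -/
def vm (D : ChevalleyDatum) (F : Type*) [Field F] (m : ℕ) : D.Idx → F :=
  fun i => if m.testBit (Chev.idxCode D i) then 1 else 0

theorem vm_xor (a b : ℕ) : vm D F (Nat.xor a b) = vm D F a + vm D F b := by
  funext i
  have h : (Nat.xor a b).testBit (Chev.idxCode D i) =
      (a.testBit (Chev.idxCode D i) ^^ b.testBit (Chev.idxCode D i)) := Nat.testBit_xor a b _
  simp only [vm, Pi.add_apply, h]
  cases a.testBit (Chev.idxCode D i) <;> cases b.testBit (Chev.idxCode D i) <;>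
    simp [CharTwo.add_self_eq_zero]

omit [CharP F 2] in
theorem vm_zero : vm D F 0 = 0 := by funext i; simp [vm]

omit [CharP F 2] in
theorem vm_two_pow (c : ℕ) : vm D F (2 ^ c) = Chev.unitFun D F c := by
  funext i
  simp [vm, Chev.unitFun, Nat.testBit_two_pow, eq_comm]

theorem evalV_maskV : ∀ V : List Chev.Term,
    Chev.evalV D (1 : F) 1 V = vm D F (maskV V)
  | [] => by simp [maskV, vm_zero]
  | e :: V => by
    rw [Chev.evalV_cons, evalV_maskV V, maskV, vm_xor]
    congr 1
    by_cases h : e.c % 2 = 0
    · rw [if_pos h, vm_zero, (CharP.intCast_eq_zero_iff F 2 _).2 (by omega), zero_mul, zero_mul,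
        zero_smul]
    · have h3 : ((e.c - 1 : ℤ) : F) = 0 := (CharP.intCast_eq_zero_iff F 2 _).2 (by omega)
      rw [Int.cast_sub, Int.cast_one, sub_eq_zero] at h3
      rw [if_neg h, h3, vm_two_pow, one_pow, one_pow, one_mul, one_mul, one_smul]

theorem vm_xorPick (cols : List ℕ) (S : Submodule F (D.Idx → F))
    (h : ∀ c, vm D F (cols.getD c 0) ∈ S) : ∀ k, vm D F (xorPick cols k) ∈ S
  | [] => by rw [xorPick, vm_zero]; exact zero_mem _
  | c :: cs => by rw [xorPick, vm_xor]; exact add_mem (h c) (vm_xorPick cols S h cs)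

theorem vm_xorPivot (a : ℕ) (S : Submodule F (D.Idx → F)) :
    ∀ es : List (ℕ × ℕ × List ℕ), (∀ e ∈ es, vm D F e.2.1 ∈ S) → vm D F (xorPivot a es) ∈ S
  | [], _ => by rw [xorPivot, vm_zero]; exact zero_mem _
  | e :: es, h => by
    have := vm_xorPivot a S es fun x hx => h x (List.mem_cons_of_mem _ hx)
    rw [xorPivot]
    cases a.testBit e.1
    · simpa using this
    · rw [cond_true, vm_xor]
      exact add_mem (h e (List.mem_cons_self ..)) this

/-- The invariant. -/
noncomputable def rkSub (g : GL D.Idx F) : ℕ :=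
  ((g : Matrix D.Idx D.Idx F) - 1).rank

omit [CharP F 2] in
theorem rkSub_conj (g h : GL D.Idx F) : rkSub (h * g * h⁻¹) = rkSub g := by
  have e : ((h * g * h⁻¹ : GL D.Idx F) : Matrix D.Idx D.Idx F) - 1 =
      (h : Matrix D.Idx D.Idx F) * ((g : Matrix D.Idx D.Idx F) - 1) *
        ((h⁻¹ : GL D.Idx F) : Matrix D.Idx D.Idx F) := by
    rw [mul_sub, sub_mul, mul_one, Units.mul_inv]
    simp
  rw [rkSub, e, Matrix.rank_mul_eq_left_of_isUnit_det _ _
      ((Matrix.isUnit_iff_isUnit_det _).1 (Units.isUnit _)),
    Matrix.rank_mul_eq_right_of_isUnit_det _ _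
      ((Matrix.isUnit_iff_isUnit_det _).1 (Units.isUnit _)), rkSub]

omit [CharP F 2] in
theorem rkSub_one : rkSub (1 : GL D.Idx F) = 0 := by simp [rkSub]

variable (K : Chev.Cert D) (C : ChevCore D F)

theorem rkSub_wprod {rs cols : List ℕ} {ech : List (ℕ × ℕ × List ℕ)}
    (h : rankCheck K.T rs cols ech = true) : rkSub (wprod C rs) = ech.length := by
  simp only [rankCheck, Bool.and_eq_true, List.all_eq_true, List.mem_range,
    decide_eq_true_eq] at h
  obtain ⟨⟨⟨hrs, hcols⟩, hech⟩, hspan⟩ := h
  have hv := K.hv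
  set A : Matrix D.Idx D.Idx F := (wprod C rs : Matrix D.Idx D.Idx F) - 1 with hA
  have hN : K.T.rowsN = D.nroots + D.rank := by rw [Chev.Data.rowsN, hv.hn, hv.hl]
  have hword : (wprod C rs : Matrix D.Idx D.Idx F) =
      D.wordMat F (Chev.evalW 1 1 (rs.map fun r => (⟨r, 1, 0, 0⟩ : Chev.Letter))) := by
    rw [show wprod C rs = C.wordGL (rs.map fun r => (r, (1 : F))) by
      simp [wprod, ChevCore.wordGL, List.map_map, Function.comp_def], C.coe_wordGL]
    congr 1
    simp [Chev.evalW, Chev.Letter.param, List.map_map, Function.comp_def]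
  have hcol : ∀ c, c < K.T.rowsN → A *ᵥ Chev.unitFun D F c = vm D F (cols.getD c 0) := by
    intro c hc
    have hget : cols.getD c 0 = colMask K.T rs c := by
      rw [← hcols, List.getD, List.getElem?_map, List.getElem?_range hc]
      rfl
    rw [hget, colMask, vm_xor, vm_two_pow, ← evalV_maskV,
      Chev.Data.evalV_applyW hv 1 1 _ (fun L hL => by
        obtain ⟨r, hr, rfl⟩ := List.mem_map.1 hL
        exact hrs r hr), Chev.evalV_unitVec, ← hword, hA, Matrix.sub_mulVec, Matrix.one_mulVec]
    funext i
    rw [Pi.sub_apply, Pi.add_apply, CharTwo.sub_eq_add]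
  have hcolmem : ∀ c, vm D F (cols.getD c 0) ∈ LinearMap.range A.mulVecLin := by
    intro c
    by_cases hc : c < K.T.rowsN
    · exact ⟨Chev.unitFun D F c, hcol c hc⟩
    · rw [List.getD_eq_default _ _ (by rw [← hcols]; simp; omega), vm_zero]
      exact zero_mem _
  set v : Fin ech.length → D.Idx → F := fun i => vm D F (ech.getD i.val (0, 0, [])).2.1 with hvdef
  have hbit : ∀ i j : Fin ech.length,
      ∀ x : D.Idx, Chev.idxCode D x = (ech.getD i.val (0, 0, [])).1 →
        v j x = if j = i then 1 else 0 := by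
    intro i j x hx
    have := (hech i i.isLt).2 j j.isLt
    simp only [hvdef, vm, hx, this]
    by_cases e : j = i
    · simp [e]
    · simp [e, Fin.val_ne_of_ne e]
  have hli : LinearIndependent F v := by
    rw [Fintype.linearIndependent_iff]
    intro g hg i
    obtain ⟨x, hx⟩ := Chev.exists_idxCode (D := D)
      (c := (ech.getD i.val (0, 0, [])).1) (by rw [← hN]; exact (hech i i.isLt).1.1.1)
    have := congrFun hg x
    simp only [Finset.sum_apply, Pi.smul_apply, hbit i _ x hx, smul_eq_mul, mul_ite, mul_one,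
      mul_zero, Finset.sum_ite_eq', Finset.mem_univ, if_true, Pi.zero_apply] at this
    exact this
  have hvmem : ∀ i, v i ∈ LinearMap.range A.mulVecLin := by
    intro i
    rw [hvdef]
    show vm D F (ech.getD i.val (0, 0, [])).2.1 ∈ _
    rw [← (hech i i.isLt).1.2]
    exact vm_xorPick cols _ hcolmem _
  have heq : LinearMap.range A.mulVecLin = Submodule.span F (Set.range v) := by
    refine le_antisymm ?_ (Submodule.span_le.2 ?_)
    · rw [Matrix.range_mulVecLin, Submodule.span_le]
      rintro _ ⟨x, rfl⟩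
      have hlt : Chev.idxCode D x < K.T.rowsN := by rw [hN]; exact Chev.idxCode_lt x
      have hc := hcol _ hlt
      rw [Chev.unitFun_idxCode, Matrix.mulVec_single_one] at hc
      rw [SetLike.mem_coe, hc]
      have hmem : cols.getD (Chev.idxCode D x) 0 ∈ cols := by
        rw [List.getD_eq_getElem _ _ (by rw [← hcols]; simpa using hlt)]
        exact List.getElem_mem _
      rw [← hspan _ hmem]
      refine vm_xorPivot _ _ _ fun e he => ?_
      obtain ⟨i, hi, rfl⟩ := List.getElem_of_mem he
      refine Submodule.subset_span ⟨⟨i, hi⟩, ?_⟩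
      simp [hvdef]
    · rintro _ ⟨i, rfl⟩
      exact hvmem i
  rw [rkSub, Matrix.rank, ← hA, heq, finrank_span_eq_card hli, Fintype.card_fin]

end Rank

end CfsgLib.InvolLaced
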