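import Cfsg.Agent.Lib.InvolLaced.Moves
import Cfsg.Agent.Lib.InvolLaced.Rank
import Cfsg.Agent.Lib.InvolLaced.Descent
import Cfsg.Agent.Lib.InvolLaced.Fast
import Cfsg.Agent.Lib.Chev.CertE6

/-!
Certificates for the classes of involutions of type E6 in characteristic two: representatives of
the orthogonal sets, extension words, reduction moves and echelon bases.
-/

set_option autoImplicit false
set_option maxHeartbeats 4000000

namespace CfsgLib.InvolLaced.E6

open Cfsg.Lie

/-- The peeling order. -/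
def order : List (Fin chevE6.rank) :=
  [⟨5, by decide⟩, ⟨4, by decide⟩, ⟨3, by decide⟩, ⟨2, by decide⟩, ⟨1, by decide⟩, ⟨0, by decide⟩]

/-- Orthogonal sets up to the Weyl group. -/
def reps : List (List ℕ) :=
  [[], [36], [36, 39], [36, 39, 50], [36, 39, 50, 55]]

/-- The final products. -/
def targets : List (List ℕ) :=
  [[71], [66, 68], [55, 65, 67]]

/-- The extension words of representative 0. -/
def ext0 : List (ℕ × List ℕ) :=
  [(1, [1, 3, 4, 2, 3, 0, 2, 1, 3, 4, 5]), (1, [3, 4, 2, 3, 0, 2, 1, 3, 4, 5]), (1, [4, 2, 3, 0, 2, 1,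
  3, 4, 5]), (1, [2, 3, 0, 2, 1, 3, 4, 5]), (1, [5, 2, 3, 0, 2, 1, 3, 4, 5]), (1, [4, 3, 0, 2, 1, 3,
  4, 5]), (1, [3, 0, 2, 1, 3, 4, 5]), (1, [5, 3, 0, 2, 1, 3, 4, 5]), (1, [0, 2, 1, 3, 4, 5]), (1, [5,
  0, 2, 1, 3, 4, 5]), (1, [4, 5, 0, 2, 1, 3, 4, 5]), (1, [0, 2, 3, 4, 5]), (1, [5, 0, 2, 3, 4, 5]),
  (1, [4, 5, 0, 2, 3, 4, 5]), (1, [3, 4, 5, 0, 2, 3, 4, 5]), (1, [2, 3, 4, 5, 0, 2, 3, 4, 5]), (1, [4,
  3, 2, 1, 3, 4, 5]), (1, [3, 2, 1, 3, 4, 5]), (1, [5, 3, 2, 1, 3, 4, 5]), (1, [2, 1, 3, 4, 5]), (1,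
  [5, 2, 1, 3, 4, 5]), (1, [4, 5, 2, 1, 3, 4, 5]), (1, [1, 3, 4, 5]), (1, [5, 1, 3, 4, 5]), (1, [4, 5,
  1, 3, 4, 5]), (1, [3, 4, 5, 1, 3, 4, 5]), (1, [2, 3, 4, 5]), (1, [5, 2, 3, 4, 5]), (1, [4, 5, 2, 3,
  4, 5]), (1, [3, 4, 5, 2, 3, 4, 5]), (1, [3, 4, 5]), (1, [5, 3, 4, 5]), (1, [4, 5, 3, 4, 5]), (1, [4,
  5]), (1, [5, 4, 5]), (1, [5]), (1, []), (1, [5, 4]), (1, [4]), (1, [4, 5, 3, 4]), (1, [5, 3, 4]),
  (1, [3, 4]), (1, [3, 4, 5, 2, 3, 4]), (1, [4, 5, 2, 3, 4]), (1, [5, 2, 3, 4]), (1, [2, 3, 4]), (1,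
  [3, 4, 5, 1, 3, 4]), (1, [4, 5, 1, 3, 4]), (1, [5, 1, 3, 4]), (1, [1, 3, 4]), (1, [4, 5, 2, 1, 3,
  4]), (1, [5, 2, 1, 3, 4]), (1, [2, 1, 3, 4]), (1, [5, 3, 2, 1, 3, 4]), (1, [3, 2, 1, 3, 4]), (1, [4,
  3, 2, 1, 3, 4]), (1, [2, 3, 4, 5, 0, 2, 3, 4]), (1, [3, 4, 5, 0, 2, 3, 4]), (1, [4, 5, 0, 2, 3, 4]),
  (1, [5, 0, 2, 3, 4]), (1, [0, 2, 3, 4]), (1, [4, 5, 0, 2, 1, 3, 4]), (1, [5, 0, 2, 1, 3, 4]), (1,
  [0, 2, 1, 3, 4]), (1, [5, 3, 0, 2, 1, 3, 4]), (1, [3, 0, 2, 1, 3, 4]), (1, [4, 3, 0, 2, 1, 3, 4]),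
  (1, [5, 2, 3, 0, 2, 1, 3, 4]), (1, [2, 3, 0, 2, 1, 3, 4]), (1, [4, 2, 3, 0, 2, 1, 3, 4]), (1, [3, 4,
  2, 3, 0, 2, 1, 3, 4]), (1, [1, 3, 4, 2, 3, 0, 2, 1, 3, 4])]

/-- The extension words of representative 1. -/
def ext1 : List (ℕ × List ℕ) :=
  [(2, [4, 3, 2, 1, 3, 4, 5, 4, 3, 2, 1, 3, 4, 0, 2, 1, 3]), (2, [4, 5, 3, 4, 2, 3, 0, 2, 1, 3, 4, 2,
  3, 0, 2, 5]), (2, [3, 4, 5, 3, 4, 2, 3, 0, 2, 1, 3, 4, 2, 3, 0, 2, 5]), (0, []), (0, []), (2, [2, 3,
  4, 5, 3, 4, 2, 3, 0, 2, 1, 3, 4, 2, 3, 0, 2, 5]), (0, []), (0, []), (0, []), (0, []), (2, [0, 2, 1,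
  3]), (0, []), (0, []), (2, [0, 2, 3]), (2, [3, 0, 2, 3]), (2, [2, 3, 0, 2, 3]), (2, [0, 2, 3, 4, 5,
  3, 4, 2, 3, 0, 2, 1, 3, 4, 2, 3, 0, 2, 5]), (0, []), (0, []), (0, []), (0, []), (2, [2, 1, 3]), (0,
  []), (0, []), (2, [1, 3]), (2, [3, 1, 3]), (0, []), (0, []), (2, [2, 3]), (2, [3, 2, 3]), (0, []),
  (0, []), (2, [3]), (0, []), (0, []), (0, []), (0, []), (0, []), (0, []), (2, []), (0, []), (0, []),
  (2, [3, 2]), (2, [2]), (0, []), (0, []), (2, [3, 1]), (2, [1]), (0, []), (0, []), (2, [2, 1]), (0,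
  []), (0, []), (0, []), (0, []), (2, [0, 2, 3, 4, 5, 3, 4, 2, 3, 0, 2, 1, 3, 4, 2, 3, 0, 2]), (2, [2,
  3, 0, 2]), (2, [3, 0, 2]), (2, [0, 2]), (0, []), (0, []), (2, [0, 2, 1]), (0, []), (0, []), (0, []),
  (0, []), (2, [2, 3, 4, 5, 3, 4, 2, 3, 0, 2, 1, 3, 4, 2, 3, 0, 2]), (0, []), (0, []), (2, [3, 4, 5,
  3, 4, 2, 3, 0, 2, 1, 3, 4, 2, 3, 0, 2]), (2, [4, 5, 3, 4, 2, 3, 0, 2, 1, 3, 4, 2, 3, 0, 2]), (2, [4,
  3, 2, 1, 3, 4, 5, 4, 3, 2, 1, 3, 4, 0, 2, 1])]

/-- The extension words of representative 2. -/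
def ext2 : List (ℕ × List ℕ) :=
  [(3, [2, 1, 3, 4, 5, 2, 1, 3, 4, 0, 2, 3, 1, 3, 2]), (0, []), (0, []), (0, []), (0, []), (3, [4, 5,
  3, 4, 0, 2, 3, 1, 3, 2]), (0, []), (0, []), (0, []), (0, []), (3, [0, 2, 3, 1, 3, 2]), (0, []), (0,
  []), (0, []), (0, []), (3, [2, 1, 3, 2, 1, 0, 2, 3, 1, 3, 2]), (3, [4, 5, 3, 4, 2, 3, 1, 3, 2]), (0,
  []), (0, []), (0, []), (0, []), (3, [2, 3, 1, 3, 2]), (0, []), (0, []), (0, []), (0, []), (0, []),
  (0, []), (0, []), (0, []), (0, []), (0, []), (0, []), (0, []), (0, []), (0, []), (0, []), (0, []),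
  (0, []), (0, []), (0, []), (0, []), (0, []), (0, []), (0, []), (0, []), (0, []), (0, []), (0, []),
  (0, []), (3, []), (0, []), (0, []), (0, []), (0, []), (3, [4, 5, 3, 4]), (3, [2, 1, 3, 2, 1, 0]),
  (0, []), (0, []), (0, []), (0, []), (3, [0]), (0, []), (0, []), (0, []), (0, []), (3, [4, 5, 3, 4,
  0]), (0, []), (0, []), (0, []), (0, []), (3, [2, 1, 3, 4, 5, 2, 1, 3, 4, 0])]

/-- The extension words of representative 3. -/
def ext3 : List (ℕ × List ℕ) :=
  [(0, []), (0, []), (0, []), (0, []), (0, []), (0, []), (0, []), (0, []), (0, []), (0, []), (0, []),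
  (0, []), (0, []), (0, []), (0, []), (0, []), (4, [4, 5, 3, 4, 2, 3, 1, 3, 2, 4, 3, 5, 4]), (0, []),
  (0, []), (0, []), (0, []), (0, []), (0, []), (0, []), (0, []), (0, []), (0, []), (0, []), (0, []),
  (0, []), (0, []), (0, []), (0, []), (0, []), (0, []), (0, []), (0, []), (0, []), (0, []), (0, []),
  (0, []), (0, []), (0, []), (0, []), (0, []), (0, []), (0, []), (0, []), (0, []), (0, []), (0, []),
  (0, []), (0, []), (0, []), (0, []), (4, []), (0, []), (0, []), (0, []), (0, []), (0, []), (0, []),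
  (0, []), (0, []), (0, []), (0, []), (0, []), (0, []), (0, []), (0, []), (0, []), (0, [])]

/-- The extension words of representative 4. -/
def ext4 : List (ℕ × List ℕ) :=
  [(0, []), (0, []), (0, []), (0, []), (0, []), (0, []), (0, []), (0, []), (0, []), (0, []), (0, []),
  (0, []), (0, []), (0, []), (0, []), (0, []), (0, []), (0, []), (0, []), (0, []), (0, []), (0, []),
  (0, []), (0, []), (0, []), (0, []), (0, []), (0, []), (0, []), (0, []), (0, []), (0, []), (0, []),
  (0, []), (0, []), (0, []), (0, []), (0, []), (0, []), (0, []), (0, []), (0, []), (0, []), (0, []),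
  (0, []), (0, []), (0, []), (0, []), (0, []), (0, []), (0, []), (0, []), (0, []), (0, []), (0, []),
  (0, []), (0, []), (0, []), (0, []), (0, []), (0, []), (0, []), (0, []), (0, []), (0, []), (0, []),
  (0, []), (0, []), (0, []), (0, []), (0, []), (0, [])]

/-- The extension certificate. -/
def extCert : List (List (ℕ × List ℕ)) :=
  [ext0, ext1, ext2, ext3, ext4]

/-- The reduction moves. -/
def finCert : List (ℕ × List Move) :=
  [(0, []), (0, [.refl 4, .refl 3, .refl 2, .refl 1, .refl 3, .refl 4, .refl 0, .refl 2, .refl 3,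
  .refl 1]), (1, [.refl 4, .refl 2, .refl 3, .refl 0, .refl 2, .refl 1, .refl 3, .refl 4, .refl 5,
  .refl 2, .refl 0]), (2, [.refl 4, .refl 5, .refl 3, .refl 0, .refl 2, .refl 1, .refl 3, .refl 4,
  .refl 0, .refl 2, .refl 1, .refl 3, .refl 0]), (2, [.conj 38, .conj 39, .conj 40, .conj 51, .refl 4,
  .refl 5, .refl 3, .refl 0, .refl 2, .refl 1, .refl 3, .refl 4, .refl 0, .refl 2, .refl 1, .refl 3,
  .refl 0])]

/-- Columns of target 0. -/
def cols0 : List ℕ :=
  [195978209039090276368384, 70368744177664, 140737488355328, 281474976710656, 562949953421312,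
  1125899906842624, 2251799813685248, 4503599627370496, 9007199254740992, 18014398509481984,
  36028797018963968, 0, 0, 0, 0, 0, 2305843009213693952, 4611686018427387904, 9223372036854775808,
  18446744073709551616, 36893488147419103232, 73786976294838206464, 147573952589676412928,
  295147905179352825856, 590295810358705651712, 1180591620717411303424, 0, 0, 0, 0, 0, 0, 0, 0, 0, 0,
  0, 0, 0, 0, 0, 0, 0, 0, 0, 0, 0, 0, 0, 0, 0, 0, 0, 0, 0, 0, 0, 0, 0, 0, 0, 0, 0, 0, 0, 0, 0, 0, 0,
  0, 0, 0, 0, 2361183241434822606848, 0, 0, 0, 0]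

/-- Echelon basis of target 0. -/
def ech0 : List (ℕ × ℕ × List ℕ) :=
  [(77, 193617025797655453761536, [0, 73]), (46, 70368744177664, [1]), (47, 140737488355328, [2]),
  (48, 281474976710656, [3]), (49, 562949953421312, [4]), (50, 1125899906842624, [5]), (51,
  2251799813685248, [6]), (52, 4503599627370496, [7]), (53, 9007199254740992, [8]), (54,
  18014398509481984, [9]), (55, 36028797018963968, [10]), (61, 2305843009213693952, [16]), (62,
  4611686018427387904, [17]), (63, 9223372036854775808, [18]), (64, 18446744073709551616, [19]), (65,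
  36893488147419103232, [20]), (66, 73786976294838206464, [21]), (67, 147573952589676412928, [22]),
  (68, 295147905179352825856, [23]), (69, 590295810358705651712, [24]), (70, 1180591620717411303424,
  [25]), (71, 2361183241434822606848, [73])]

/-- Columns of target 1. -/
def cols1 : List ℕ :=
  [1152921504617332736, 9223372039270694912, 36893488165135843328, 241135838531531258724352,
  68719476736, 184246079808211001540608, 590295814894191116288, 274877906944, 1180591630613015953408,
  2199023255552, 35184372088832, 2361184648809706160128, 562949953421312, 4503599627370496,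
  18014398509481984, 36028797018963968, 72057594037927936, 144115188075855872, 0, 288230376151711744,
  0, 1152921504606846976, 576460752303423488, 1152921504606846976, 0, 0, 2305843009213693952, 0,
  9223372036854775808, 36893488147419103232, 4611686018427387904, 9223372036854775808, 0,
  18446744073709551616, 36893488147419103232, 147573952589676412928, 0, 590295810358705651712, 0, 0,
  1180591620717411303424, 0, 590295810358705651712, 1180591620717411303424, 0, 0, 0, 0,
  2361183241434822606848, 0, 2361183241434822606848, 0, 0, 0, 0, 0, 0, 0, 0, 0, 0, 0, 0, 0, 0, 0, 0,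
  0, 0, 0, 0, 0, 73786976294838206464, 0, 368934881474191032320, 0, 368934881474191032320,
  295147905179352825856]

/-- Echelon basis of target 1. -/
def ech1 : List (ℕ × ℕ × List ℕ) :=
  [(60, 1152921504606846976, [21]), (63, 9223372036854775808, [28]), (65, 36893488147419103232, [29]),
  (77, 184172292831916163334144, [5, 72]), (36, 68719476736, [4]), (76, 94447329657392904273920, [3,
  5, 74]), (69, 590295810358705651712, [37]), (38, 274877906944, [7]), (70, 1180591620717411303424,
  [40]), (41, 2199023255552, [9]), (45, 35184372088832, [10]), (71, 2361183241434822606848, [48]),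
  (49, 562949953421312, [12]), (52, 4503599627370496, [13]), (54, 18014398509481984, [14]), (55,
  36028797018963968, [15]), (56, 72057594037927936, [16]), (57, 144115188075855872, [17]), (58,
  288230376151711744, [19]), (23, 10485760, [0, 21]), (59, 576460752303423488, [22]), (61,
  2305843009213693952, [26]), (31, 2415919104, [1, 28]), (34, 17716740096, [2, 29]), (62,
  4611686018427387904, [30]), (64, 18446744073709551616, [33]), (67, 147573952589676412928, [35]),
  (42, 4535485464576, [6, 37]), (43, 9895604649984, [8, 40]), (50, 1407374883553280, [11, 48]), (66,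
  73786976294838206464, [72]), (68, 295147905179352825856, [72, 74])]

/-- Columns of target 2. -/
def cols2 : List ℕ :=
  [1180879870884777559040, 2363491899195011375104, 9007207844691968, 18446744108606160896,
  89872537127112935473152, 18014415689383936, 259767050045977905856512, 295147909646118813696,
  549755813888, 8796093022208, 1180591640508620603392, 140737488355328, 1125899906842624,
  2361186056184589713408, 9007199254740992, 18014398509481984, 179449962377843537084416,
  73859034026315087872, 590439925821659414528, 1099511627776, 1180879853292586270720,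
  576460752303423488, 1180879868685749059584, 35184372088832, 1152921504606846976, 0, 281474976710656,
  2363489647393989722112, 4611686018427387904, 18446744073709551616, 2363491336243849986048,
  4503599627370496, 9223372036854775808, 9007199254740992, 18014398509481984, 18446744073709551616,
  295147905179352825856, 73786976294838206464, 590295810358705651712, 0, 0, 1180591620717411303424,
  295147905179352825856, 0, 1180591620717411303424, 0, 0, 0, 0, 2361183241434822606848, 0,
  2361183241434822606848, 0, 0, 0, 0, 73786976294838206464, 590295810358705651712,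
  1180591620717411303424, 0, 0, 2361183241434822606848, 0, 0, 0, 0, 0, 0, 0, 0, 0, 0,
  36929516944438067200, 0, 184467440737095516160, 36893488147419103232, 36929516944438067200,
  184467440737095516160]

/-- Echelon basis of target 2. -/
def ech2 : List (ℕ × ℕ × List ℕ) :=
  [(70, 1180591620717411303424, [10, 20, 22]), (71, 2361183241434822606848, [13, 27, 30]), (53,
  9007199254740992, [14]), (64, 18446744073709551616, [29]), (76, 80280230208783968632832, [6, 16,
  72]), (54, 18014398509481984, [15]), (77, 170005193383307227693056, [4, 6, 74]), (68,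
  295147905179352825856, [36]), (39, 549755813888, [8]), (43, 8796093022208, [9]), (58,
  288230376156955648, [0, 10]), (47, 140737488355328, [11]), (50, 1125899906842624, [12]), (61,
  2305843010421661696, [1, 13]), (33, 8589950976, [2, 14]), (34, 17179901952, [5, 15]), (73,
  9444732965739290427392, [4, 6, 16, 72, 74, 75]), (66, 73786976294838206464, [37]), (69,
  590295810358705651712, [38]), (40, 1099511627776, [19]), (44, 17592191288320, [0, 20]), (59,
  576460752303423488, [21]), (41, 2199028499456, [0, 22]), (45, 35184372088832, [23]), (60,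
  1152921504606846976, [24]), (48, 281474976710656, [26]), (51, 2251801021652992, [1, 27]), (62,
  4611686018427387904, [28]), (35, 34896609280, [3, 29]), (49, 562951161389056, [1, 30]), (52,
  4503599627370496, [31]), (63, 9223372036854775808, [32]), (42, 4466765987840, [7, 36]), (56,
  72057731476881408, [17, 37]), (57, 144115462953762816, [18, 38]), (65, 36893488147419103232, [75]),
  (67, 147573952589676412928, [74, 75]), (55, 36028797018963968, [72, 75])]

theorem laced_fast : lacedCheckT Chev.E6.cert.T = true := by decide +kernel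

theorem laced : LRoot chevE6 :=
  LRoot.ofFast Chev.E6.cert laced_fast

theorem chain : chainCheck chevE6 [] order = true := by decide +kernel

theorem ext_fast : extCheckT Chev.E6.cert.T reps extCert = true := by decide +kernel

theorem ext_check : extCheck chevE6 reps extCert = true :=
  extCheck_of_fast Chev.E6.cert ext_fast

theorem fin_check : finalCheck chevE6 reps targets finCert = true := by decide +kernel

theorem rank0 : rankCheck Chev.E6.cert.T (targets.getD 0 []) cols0 ech0 = true := by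
  decide +kernel

theorem length0 : ech0.length = 22 := by decide +kernel

theorem rank1 : rankCheck Chev.E6.cert.T (targets.getD 1 []) cols1 ech1 = true := by
  decide +kernel

theorem length1 : ech1.length = 32 := by decide +kernel

theorem rank2 : rankCheck Chev.E6.cert.T (targets.getD 2 []) cols2 ech2 = true := by
  decide +kernel

theorem length2 : ech2.length = 38 := by decide +kernel

end CfsgLib.InvolLaced.E6
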