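import Cfsg.Agent.Lib.InvolLaced.Classes
import Cfsg.Agent.Lib.InvolLaced.DataE6

/-! The checked data of type E6. -/

set_option autoImplicit false

namespace CfsgLib.InvolLaced.E6

open Cfsg.Lie

theorem targets_check : (targets.all fun T =>
    (T.all fun r => decide (r < chevE6.nroots)) &&
      (List.range T.length).all fun i => (List.range T.length).all fun j =>
        Nat.ble j i || decide (ip chevE6 (T.getD i 0) (T.getD j 0) = 0)) = true := by decide +kernel

/-- The checked data of type E6. -/
def certified : Certified chevE6 where
  K := Chev.E6.cert
  order := order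
  reps := reps
  targets := targets
  ext := extCert
  fin := finCert
  ranks := [22, 32, 38]
  laced := laced
  chain := chain
  extOk := ext_check
  finOk := fin_check
  targetsOk := targets_check
  ranksOk := by refine ⟨rfl, ?_, ?_⟩ <;> decide
  rankSpec := fun j hj => match j, hj with
    | 0, _ => ⟨cols0, ech0, rank0, length0⟩
    | 1, _ => ⟨cols1, ech1, rank1, length1⟩
    | 2, _ => ⟨cols2, ech2, rank2, length2⟩
    | k + 3, hj => absurd (show k + 3 < 3 from hj) (by omega)

end CfsgLib.InvolLaced.E6
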