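import Cfsg.Agent.Lib.InvolLaced.Descent
import Cfsg.Agent.Lib.InvolLaced.Rank

/-!
The classes of involutions of a checked simply laced type in characteristic two: every involution is
conjugate to exactly one of the checked products.
-/

set_option autoImplicit false

namespace CfsgLib.InvolLaced

open Cfsg.Lie CfsgLib.ChevStr
open scoped MatrixGroups

/-- The checked data of a type. -/
structure Certified (D : ChevalleyDatum) where
  K : Chev.Cert D
  order : List (Fin D.rank)
  reps : List (List ℕ)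
  targets : List (List ℕ)
  ext : List (List (ℕ × List ℕ))
  fin : List (ℕ × List Move)
  ranks : List ℕ
  laced : LRoot D
  chain : chainCheck D [] order = true
  extOk : extCheck D reps ext = true
  finOk : finalCheck D reps targets fin = true
  targetsOk : (targets.all fun T =>
    (T.all fun r => decide (r < D.nroots)) &&
      (List.range T.length).all fun i => (List.range T.length).all fun j =>
        Nat.ble j i || decide (ip D (T.getD i 0) (T.getD j 0) = 0)) = true
  ranksOk : ranks.length = targets.length ∧ ranks.Nodup ∧ 0 ∉ ranks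
  rankSpec : ∀ j < targets.length, ∃ cols ech,
    rankCheck K.T (targets.getD j []) cols ech = true ∧ ech.length = ranks.getD j 0

namespace Certified

variable {D : ChevalleyDatum} {F : Type*} [Field F] [CharP F 2] (P : Certified D)
  (C : ChevCore D F)

omit [CharP F 2] in
theorem orth {j : ℕ} (hj : j < P.targets.length) : OrthL D (P.targets.getD j []) := by
  have h := P.targetsOk
  simp only [List.all_eq_true, Bool.and_eq_true, decide_eq_true_eq, List.mem_range,
    Bool.or_eq_true, Nat.ble_eq] at h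
  have hmem : P.targets.getD j [] ∈ P.targets := by
    rw [List.getD_eq_getElem _ _ hj]; exact List.getElem_mem _
  obtain ⟨h1, h2⟩ := h _ hmem
  refine ⟨h1, List.pairwise_iff_getElem.2 fun a b ha hb hab => ?_⟩
  have h3 := (h2 a ha b hb).resolve_left (by omega)
  rwa [List.getD_eq_getElem _ _ ha, List.getD_eq_getElem _ _ hb] at h3

theorem rkSub_target {j : ℕ} (hj : j < P.targets.length) :
    rkSub (wprod C (P.targets.getD j [])) = P.ranks.getD j 0 := by
  obtain ⟨cols, ech, h, hl⟩ := P.rankSpec j hj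
  rw [rkSub_wprod P.K C h, hl]

theorem orderOf_target {j : ℕ} (hj : j < P.targets.length) :
    orderOf (wprod C (P.targets.getD j [])) = 2 := by
  have : Fact (Nat.Prime 2) := ⟨Nat.prime_two⟩
  refine orderOf_eq_prime (by
    rw [pow_two]; exact wprod_mul_self C P.laced (P.orth hj)) fun e => ?_
  have h := P.rkSub_target C hj
  rw [e, rkSub_one] at h
  refine P.ranksOk.2.2 ?_
  rw [h]
  have hj' : j < P.ranks.length := by rw [P.ranksOk.1]; exact hj
  rw [List.getD_eq_getElem _ _ hj']
  exact List.getElem_mem _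

theorem exists_rel [Finite F] {g : GL D.Idx F} (hg : g ∈ D.group F) (ho : orderOf g = 2) :
    ∃ j < P.targets.length, Rel C g (wprod C (P.targets.getD j [])) := by
  have L := P.laced
  obtain ⟨T, hT, hne, hrel⟩ := exists_orth C L P.chain hg ho
  obtain ⟨j, hj, hrel'⟩ := exists_target C L P.extOk P.finOk hT hne
  exact ⟨j, hj, hrel.trans hrel'⟩

theorem eq_of_rel {i j : ℕ} (hi : i < P.targets.length) (hj : j < P.targets.length)
    (h : Rel C (wprod C (P.targets.getD i [])) (wprod C (P.targets.getD j []))) : i = j := by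
  obtain ⟨k, -, hk⟩ := h
  have h1 := P.rkSub_target C hj
  rw [← hk, rkSub_conj, P.rkSub_target C hi] at h1
  have hi' : i < P.ranks.length := by rw [P.ranksOk.1]; exact hi
  have hj' : j < P.ranks.length := by rw [P.ranksOk.1]; exact hj
  rw [List.getD_eq_getElem _ _ hi', List.getD_eq_getElem _ _ hj'] at h1
  exact P.ranksOk.2.1.getElem_inj_iff.1 h1

include P C in
/-- The number of classes of involutions. -/
theorem ncard_classes [Finite F] :
    (ConjClasses.mk '' {g : ↥(D.group F) | orderOf g = 2}).ncard = P.targets.length := by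
  let f : Fin P.targets.length → ConjClasses ↥(D.group F) := fun j =>
    ConjClasses.mk ⟨wprod C (P.targets.getD j.val []), wprod_mem C _⟩
  have hinj : Function.Injective f := by
    intro i j hij
    obtain ⟨k, hk⟩ := isConj_iff.1 (ConjClasses.mk_eq_mk_iff_isConj.1 hij)
    exact Fin.ext (P.eq_of_rel C i.isLt j.isLt ⟨k.1, k.2, congrArg Subtype.val hk⟩)
  have himg : ConjClasses.mk '' {g : ↥(D.group F) | orderOf g = 2} = Set.range f := by
    refine Set.Subset.antisymm ?_ ?_
    · rintro _ ⟨g, hg, rfl⟩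
      obtain ⟨j, hj, k, hk, he⟩ := P.exists_rel C g.2 (by rw [Subgroup.orderOf_coe]; exact hg)
      exact ⟨⟨j, hj⟩, ConjClasses.mk_eq_mk_iff_isConj.2
        (IsConj.symm (isConj_iff.2 ⟨⟨k, hk⟩, Subtype.ext he⟩))⟩
    · rintro _ ⟨j, rfl⟩
      refine ⟨_, ?_, rfl⟩
      show orderOf _ = 2
      rw [← Subgroup.orderOf_coe]
      exact P.orderOf_target C j.isLt
  rw [himg, Set.ncard_range_of_injective hinj, Nat.card_fin]

include P C in
/-- The description of the classes by the matrices of listed products. -/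
theorem classes_statement [Finite F] (Us : List (List ℕ)) (hlen : Us.length = P.targets.length)
    (hperm : ∀ j < P.targets.length, (P.targets.getD j []).Perm (Us.getD j []))
    (Ms : List (Matrix D.Idx D.Idx F))
    (hMs : Us.map (fun U => (wprod C U : Matrix D.Idx D.Idx F)) = Ms) :
    (∀ y : GL D.Idx F, (y : Matrix D.Idx D.Idx F) ∈ Ms → y ∈ D.group F ∧ orderOf y = 2) ∧
    (∀ g ∈ D.group F, orderOf g = 2 → ∃ y ∈ D.group F, (y : Matrix D.Idx D.Idx F) ∈ Ms ∧
      ∃ h ∈ D.group F, h * g * h⁻¹ = y) ∧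
    (∀ y₁ ∈ D.group F, ∀ y₂ ∈ D.group F, (y₁ : Matrix D.Idx D.Idx F) ∈ Ms →
      (y₂ : Matrix D.Idx D.Idx F) ∈ Ms → (∃ h ∈ D.group F, h * y₁ * h⁻¹ = y₂) →
      (y₁ : Matrix D.Idx D.Idx F) = (y₂ : Matrix D.Idx D.Idx F)) := by
  have L := P.laced
  have hw : ∀ j < P.targets.length,
      wprod C (P.targets.getD j []) = wprod C (Us.getD j []) := fun j hj =>
    wprod_perm C L (P.orth hj) (hperm j hj)
  have hmem : ∀ y : GL D.Idx F, (y : Matrix D.Idx D.Idx F) ∈ Ms ↔
      ∃ j < P.targets.length, y = wprod C (P.targets.getD j []) := by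
    intro y
    rw [← hMs, List.mem_map]
    constructor
    · rintro ⟨U, hU, he⟩
      obtain ⟨j, hj, rfl⟩ := List.getElem_of_mem hU
      refine ⟨j, hlen ▸ hj, Units.ext ?_⟩
      rw [hw j (hlen ▸ hj), ← he, List.getD_eq_getElem _ _ hj]
    · rintro ⟨j, hj, rfl⟩
      refine ⟨Us.getD j [], ?_, by rw [hw j hj]⟩
      rw [List.getD_eq_getElem _ _ (hlen ▸ hj)]
      exact List.getElem_mem _
  refine ⟨fun y hy => ?_, fun g hg ho => ?_, fun y₁ _ y₂ _ h1 h2 hc => ?_⟩
  · obtain ⟨j, hj, rfl⟩ := (hmem y).1 hy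
    exact ⟨wprod_mem C _, P.orderOf_target C hj⟩
  · obtain ⟨j, hj, hrel⟩ := P.exists_rel C hg ho
    exact ⟨_, wprod_mem C _, (hmem _).2 ⟨j, hj, rfl⟩, hrel⟩
  · obtain ⟨i, hi, rfl⟩ := (hmem y₁).1 h1
    obtain ⟨j, hj, rfl⟩ := (hmem y₂).1 h2
    rw [P.eq_of_rel C hi hj hc]

end Certified

end CfsgLib.InvolLaced
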