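import Cfsg.Agent.Lib.InvolLaced.Shift
import Cfsg.Agent.Lib.ChevStr.Bruhat

/-!
Coordinates inside subgroups of sets of roots, and the removal of the non-orthogonal coordinates of an
involution over a Levi involution.
-/

set_option autoImplicit false
set_option linter.unusedSectionVars false

namespace CfsgLib.InvolLaced

open Cfsg.Lie CfsgLib.ChevStr
open scoped MatrixGroups

variable {D : ChevalleyDatum} {F : Type*} [Field F] (C : ChevCore D F) (L : LRoot D)
  [CharP F 2] {V : Lev D} (hV : V.Good)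

/-- The roots of positive degree orthogonal to a list. -/
def orthQ (V : Lev D) (Ls : List (Fin D.nroots)) (k : Fin D.nroots) : Prop :=
  V.inQ k ∧ ∀ b ∈ Ls, ip D (b : Fin D.nroots) k = 0

include L in
theorem commute_UP {p : Fin D.nroots → Prop} {r : Fin D.nroots}
    (h : ∀ q, p q → 0 ≤ ip D r (q : Fin D.nroots)) (t : F) {g : GL D.Idx F} (hg : g ∈ UP C p) :
    Commute (C.xGL r t) g := by
  have hle : UP C p ≤ Subgroup.centralizer ({C.xGL r t} : Set (GL D.Idx F)) :=
    UP_le C fun q hq u => Subgroup.mem_centralizer_iff.2 fun w hw => by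
      rw [Set.mem_singleton_iff] at hw
      subst hw
      exact (commute_of_ip C L (h q hq) t u).eq
  exact Subgroup.mem_centralizer_iff.1 (hle hg) _ rfl

include L in
theorem sq_of_abelian {p : Fin D.nroots → Prop}
    (h : ∀ q q', p q → p q' → 0 ≤ ip D (q : Fin D.nroots) (q' : Fin D.nroots))
    {g : GL D.Idx F} (hg : g ∈ UP C p) : g * g = 1 := by
  refine Subgroup.closure_induction (p := fun g _ => g * g = 1) ?_ ?_ ?_ ?_ hg
  · rintro _ ⟨s, -, u, rfl⟩
    exact xGL_mul_self C s u
  · exact one_mul 1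
  · intro x y hx hy ihx ihy
    have hc : Commute x y := by
      refine Subgroup.closure_induction (p := fun x _ => Commute x y) ?_ ?_ ?_ ?_ hx
      · rintro _ ⟨s, ⟨hs, hps⟩, u, rfl⟩
        exact commute_UP C L (r := ⟨s, hs⟩) (fun q hq => h _ q hps hq) u hy
      · exact Commute.one_left y
      · exact fun a b _ _ ha hb => ha.mul_left hb
      · exact fun a _ ha => ha.inv_left
    rw [mul_assoc, ← mul_assoc y x y, ← hc.eq, mul_assoc x y y, ihy, mul_one, ihx]
  · intro x _ ihx
    rw [inv_eq_of_mul_eq_one_right ihx]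
    exact ihx

theorem exists_of_single {p : Fin D.nroots → Prop} {z : Fin D.nroots} (h : ∀ q, p q → q = z)
    {g : GL D.Idx F} (hg : g ∈ UP C p) : ∃ c : F, g = C.xGL z c := by
  have hle : UP C p ≤ D.rootSubgroup F z := UP_le C fun q hq u =>
    C.mem_rootSubgroup.2 ⟨u, by rw [h q hq]⟩
  exact C.mem_rootSubgroup.1 (hle hg)

theorem eq_one_of_empty {p : Fin D.nroots → Prop} (h : ∀ q, ¬ p q) {g : GL D.Idx F}
    (hg : g ∈ UP C p) : g = 1 := by
  have hle : UP C p ≤ ⊥ := UP_le C fun q hq u => absurd hq (h q)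
  simpa using hle hg

include L hV in
/-- Members of a subgroup of a set of roots have coordinates supported there. -/
theorem exists_coords {p : Fin D.nroots → Prop} (hp : ∀ q, p q → V.inQ q) {v : GL D.Idx F}
    (hv : v ∈ UP C p) : ∃ f : Fin D.nroots → F, Supp V f ∧ (∀ q, f q ≠ 0 → p q) ∧
      Eqv C V (qprod C V f) v := by
  classical
  have hle : UP C p ≤ UP C V.inQ := UP_mono C hp
  refine Subgroup.closure_induction (p := fun v _ => ∃ f : Fin D.nroots → F, Supp V f ∧
    (∀ q, f q ≠ 0 → p q) ∧ Eqv C V (qprod C V f) v) ?_ ?_ ?_ ?_ hv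
  · rintro _ ⟨s, ⟨hs, hps⟩, u, rfl⟩
    rcases Lev.inQ_cases (hp _ hps) with h | h
    · refine ⟨Pi.single ⟨s, hs⟩ u, fun k hk => Pi.single_eq_of_ne (fun e : k = ⟨s, hs⟩ => hk (e ▸ h)) _,
        fun q hq => ?_, by rw [qprod_single C h]; exact Eqv.refl C _⟩
      by_cases e : q = ⟨s, hs⟩
      · exact e ▸ hps
      · exact absurd (Pi.single_eq_of_ne e _) hq
    · refine ⟨0, fun _ _ => rfl, fun q hq => absurd rfl hq, ?_⟩
      show _ ∈ UP C V.inZ
      rw [qprod_zero, inv_one, one_mul]
      exact mem_UP C (r := ⟨s, hs⟩) h u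
  · exact ⟨0, fun _ _ => rfl, fun q hq => absurd rfl hq, by rw [qprod_zero]; exact Eqv.refl C _⟩
  · rintro x y hx hy ⟨f, hfs, hfp, hf⟩ ⟨g, hgs, hgp, hg⟩
    refine ⟨f + g, fun k hk => by rw [Pi.add_apply, hfs k hk, hgs k hk, add_zero],
      fun q hq => ?_, (qprod_add C L hV f g).trans (eqv_mul C L hV (qprod_mem C g) hf hg)⟩
    by_cases hfq : f q = 0
    · exact hgp q (by simpa [hfq] using hq)
    · exact hfp q hfq
  · rintro x hx ⟨f, hfs, hfp, hf⟩
    refine ⟨f, hfs, hfp, ?_⟩
    have hx' : x ∈ UP C V.inQ := hle hx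
    have h1 : Eqv C V (qprod C V (f + f)) (qprod C V f * x) :=
      (qprod_add C L hV f f).trans (eqv_mul C L hV (qprod_mem C f) (Eqv.refl C _) hf)
    rw [show f + f = 0 from funext fun z => CharTwo.add_self_eq_zero _, qprod_zero] at h1
    have h2 := eqv_mul C L hV (inv_mem hx') h1 (Eqv.refl C x⁻¹)
    rw [one_mul, mul_assoc, mul_inv_cancel, mul_one] at h2
    exact h2.symm

include L hV in
/-- An element with coordinates in a smaller set containing the degree two part lies in its subgroup. -/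
theorem mem_of_coords {p p' : Fin D.nroots → Prop} (hp : ∀ q, p q → V.inQ q)
    (hsum : ∀ r s k, p r → p s → ip D (r : Fin D.nroots) (s : Fin D.nroots) = -1 →
      cv D (k : Fin D.nroots) = cv D r + cv D s → p k)
    (hz : ∀ q, p q → V.inZ q → p' q) {v : GL D.Idx F} (hv : v ∈ UP C p)
    {f : Fin D.nroots → F} (hfp : ∀ q, V.inQ1 q → f q ≠ 0 → p q ∧ p' q)
    (hf : Eqv C V (qprod C V f) v) : v ∈ UP C p' := by
  have h1 : qprod C V f ∈ UP C p := qprod_mem_of_supp C f fun q hq h => (hfp q hq h).1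
  have h2 : (qprod C V f)⁻¹ * v ∈ C.Ucl (natSet p ∩ natSet V.inZ) :=
    C.Ucl_inf (isClosed_natSet C L (fun q h => Lev.pos_of_inQ C L (hp q h)) hsum)
      (closed_Z C L hV) (mul_mem (inv_mem h1) hv) hf
  have h3 : (qprod C V f)⁻¹ * v ∈ UP C p' := by
    refine (C.Ucl_le (H := UP C p') ?_) h2
    rintro r ⟨⟨hr, h⟩, ⟨_, h'⟩⟩ t
    exact mem_UP C (r := ⟨r, hr⟩) (hz _ h h') t
  have := mul_mem (qprod_mem_of_supp C (p := p') f fun q hq h => (hfp q hq h).2) h3
  rwa [mul_inv_cancel_left] at this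

include L in
theorem conj_wprod_Q : ∀ {Ls : List (Fin D.nroots)}, (∀ b ∈ Ls, V.inM b) → ∀ {g : GL D.Idx F},
    g ∈ UP C V.inQ →
      wprod C (Ls.map Fin.val) * g * (wprod C (Ls.map Fin.val))⁻¹ ∈ UP C V.inQ := by
  intro Ls
  induction Ls with
  | nil => intro _ g hg; simpa [wprod_nil] using hg
  | cons b B ih =>
    intro hM g hg
    have h := conj_M_mem_Q C L (hM b (List.mem_cons_self ..)) 1
      (ih (fun x hx => hM x (List.mem_cons_of_mem _ hx)) hg)
    rw [List.map_cons, wprod_cons]
    simpa [mul_assoc] using h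

include L hV in
theorem conj_wprod_Z : ∀ {Ls : List (Fin D.nroots)}, (∀ b ∈ Ls, V.inM b) → ∀ {g : GL D.Idx F},
    g ∈ UP C V.inZ →
      wprod C (Ls.map Fin.val) * g * (wprod C (Ls.map Fin.val))⁻¹ ∈ UP C V.inZ := by
  intro Ls
  induction Ls with
  | nil => intro _ g hg; simpa [wprod_nil] using hg
  | cons b B ih =>
    intro hM g hg
    have h := conj_M_mem_Z C L hV (hM b (List.mem_cons_self ..)) 1
      (ih (fun x hx => hM x (List.mem_cons_of_mem _ hx)) hg)
    rw [List.map_cons, wprod_cons]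
    simpa [mul_assoc] using h

include L hV in
theorem conj_wprod_qprod : ∀ {Ls : List (Fin D.nroots)}, (∀ b ∈ Ls, V.inM b) →
    ∀ {f : Fin D.nroots → F}, Supp V f →
      Eqv C V (wprod C (Ls.map Fin.val) * qprod C V f * (wprod C (Ls.map Fin.val))⁻¹)
        (qprod C V (tOp C V Ls f)) := by
  intro Ls
  induction Ls with
  | nil => intro _ f _; simpa [wprod_nil, tOp] using Eqv.refl C (qprod C V f)
  | cons b B ih =>
    intro hM f hf
    have hb := hM b (List.mem_cons_self ..)
    have h1 := eqv_conj C (x := C.xGL b 1) (fun z hz => conj_M_mem_Z C L hV hb 1 hz)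
      (ih (fun x hx => hM x (List.mem_cons_of_mem _ hx)) hf)
    have h2 := conj_qprod C L hV hb 1 (tOp C V B f) (supp_tOp C hf)
    rw [one_smul] at h2
    rw [List.map_cons, wprod_cons, tOp_cons]
    refine Eqv.trans ?_ (h1.trans h2)
    rw [mul_inv_rev]
    simp only [mul_assoc]
    exact Eqv.refl C _

include L in
theorem wprod_mul_self {Ls : List ℕ} (hp : OrthL D Ls) : wprod C Ls * wprod C Ls = 1 := by
  induction Ls with
  | nil => simp [wprod_nil]
  | cons b B ih =>
    obtain ⟨hb, hB⟩ := List.pairwise_cons.1 hp.2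
    have hlt : ∀ r ∈ b :: B, r < D.nroots := hp.1
    have hc : Commute (C.xGL b 1) (wprod C B) := by
      refine Commute.list_prod_right _ _ fun y hy => ?_
      obtain ⟨q, hq, rfl⟩ := List.mem_map.1 hy
      exact commute_of_ip C L (r := ⟨b, hlt b (List.mem_cons_self ..)⟩)
        (s := ⟨q, hlt q (List.mem_cons_of_mem _ hq)⟩) (le_of_eq (hb q hq).symm) 1 1
    rw [wprod_cons, mul_assoc, ← mul_assoc (wprod C B), ← hc.eq, mul_assoc (C.xGL b 1) (wprod C B),
      ih ⟨fun r hr => hlt r (List.mem_cons_of_mem _ hr), hB⟩, mul_one, xGL_mul_self C]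

theorem orthL_map {Ls : List (Fin D.nroots)}
    (hp : Ls.Pairwise fun a b : Fin D.nroots => ip D a b = 0) : OrthL D (Ls.map Fin.val) :=
  ⟨fun r hr => by obtain ⟨q, -, rfl⟩ := List.mem_map.1 hr; exact q.isLt, List.pairwise_map.2 hp⟩

include L hV in
/-- Removal of the coordinates not orthogonal to the roots of a Levi involution. -/
theorem exists_clear {Ls : List (Fin D.nroots)} (hM : ∀ b ∈ Ls, V.inM b)
    (hp : Ls.Pairwise fun a b : Fin D.nroots => ip D a b = 0) {v : GL D.Idx F}
    (hv : v ∈ UP C V.inQ)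
    (hsq : wprod C (Ls.map Fin.val) * v * (wprod C (Ls.map Fin.val) * v) = 1) :
    ∃ y ∈ UP C V.inQ, ∃ v' ∈ UP C (orthQ V Ls),
      y * (wprod C (Ls.map Fin.val) * v) * y⁻¹ = wprod C (Ls.map Fin.val) * v' := by
  set l := wprod C (Ls.map Fin.val) with hl
  have hl2 : l * l = 1 := wprod_mul_self C L (orthL_map hp)
  have hlinv : l⁻¹ = l := inv_eq_of_mul_eq_one_right hl2
  suffices h : ∀ done : List (Fin D.nroots), (∀ b ∈ done, b ∈ Ls) → ∃ y ∈ UP C V.inQ,
      ∃ v' ∈ UP C V.inQ, y * (l * v) * y⁻¹ = l * v' ∧ ∃ f : Fin D.nroots → F, Supp V f ∧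
        Eqv C V (qprod C V f) v' ∧ ∀ k, f k ≠ 0 → ∀ b ∈ done, ip D (b : Fin D.nroots) k = 0 by
    obtain ⟨y, hy, v', hv', heq, f, hfs, hfe, hf0⟩ := h Ls fun b hb => hb
    refine ⟨y, hy, v', ?_, heq⟩
    refine mem_of_coords C L hV (p := V.inQ) (fun q h => h)
      (fun r s k hr hs _ hk => Lev.inQ_sum C L hr hs hk) (fun q _ hq => ⟨Lev.inQ_of_inZ hq,
        fun b hb => by rw [L.ip_comm, hV.top_zero q b hq (hM b hb)]⟩) hv' (fun q hq h => ⟨Lev.inQ_of_inQ1 hq,
        Lev.inQ_of_inQ1 hq, hf0 q h⟩) hfe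
  intro done
  induction done with
  | nil =>
    intro _
    obtain ⟨f, hfs, -, hfe⟩ := exists_coords C L hV (fun _ h => h) hv
    exact ⟨1, one_mem _, v, hv, by simp, f, hfs, hfe, fun k _ b hb => absurd hb List.not_mem_nil⟩
  | cons b done ih =>
    intro hsub
    obtain ⟨y, hy, v', hv', heq, f, hfs, hfe, hf0⟩ := ih fun x hx => hsub x (List.mem_cons_of_mem _ hx)
    have hsq' : l * v' * (l * v') = 1 := by
      rw [← heq]
      calc y * (l * v) * y⁻¹ * (y * (l * v) * y⁻¹) = y * (l * v * (l * v)) * y⁻¹ := by group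
        _ = 1 := by rw [hsq]; group
    have hlv : l * v' * l⁻¹ ∈ UP C V.inQ := conj_wprod_Q C L hM hv'
    have hfix : tOp C V Ls f = f := by
      have h1 := conj_wprod_qprod C L hV hM hfs
      have h2 := eqv_conj C (x := l) (fun z hz => conj_wprod_Z C L hV hM hz) hfe
      have h3 : l * v' * l⁻¹ = v'⁻¹ := by
        rw [hlinv]
        exact eq_inv_of_mul_eq_one_left (by rw [mul_assoc]; exact hsq')
      have h4 : Eqv C V v'⁻¹ v' := by
        show _ ∈ UP C V.inZ
        rw [inv_inv]
        have h5 : Eqv C V (qprod C V (f + f)) (v' * v') :=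
          (qprod_add C L hV f f).trans (eqv_mul C L hV (qprod_mem C f) hfe hfe)
        rw [show f + f = 0 from funext fun z => CharTwo.add_self_eq_zero _, qprod_zero] at h5
        simpa [Eqv] using h5
      rw [h3] at h2
      have h6 := (h1.symm.trans (h2.trans h4)).trans hfe.symm
      funext k
      by_cases hk : V.inQ1 k
      · exact qprod_injective C L hV h6 k hk
      · rw [supp_tOp C hfs k hk, hfs k hk]
    obtain ⟨A, B, hAB⟩ := List.append_of_mem (hsub b (List.mem_cons_self ..))
    subst hAB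
    obtain ⟨g, hgs, hg⟩ := exists_solution C L hM hp hfs hfix
    have hgQ : qprod C V g ∈ UP C V.inQ := qprod_mem C g
    set w := l * qprod C V g * l⁻¹ with hw
    have hwQ : w ∈ UP C V.inQ := conj_wprod_Q C L hM hgQ
    refine ⟨qprod C V g * y, mul_mem hgQ hy, w * v' * (qprod C V g)⁻¹,
      mul_mem (mul_mem hwQ hv') (inv_mem hgQ), ?_,
      (fun k : Fin D.nroots => if ip D b k = 0 then f k else 0), ?_, ?_, ?_⟩
    · calc qprod C V g * y * (l * v) * (qprod C V g * y)⁻¹
          = qprod C V g * (y * (l * v) * y⁻¹) * (qprod C V g)⁻¹ := by group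
        _ = qprod C V g * (l * v') * (qprod C V g)⁻¹ := by rw [heq]
        _ = _ := by
          rw [hw, hlinv]
          simp only [← mul_assoc, hl2, one_mul]
    · intro k hk
      show (if _ then f k else 0) = 0
      rw [hfs k hk, ite_self]
    · have hnew : (fun k : Fin D.nroots => if ip D b k = 0 then f k else 0) =
          tOp C V (A ++ b :: B) g + (f + g) := by
        funext k
        have hgk := congrFun hg k
        simp only [Pi.add_apply] at hgk ⊢
        by_cases h0 : ip D b k = 0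
        · rw [if_pos h0] at hgk ⊢
          linear_combination -hgk
        · rw [if_neg h0] at hgk ⊢
          linear_combination -hgk - CharTwo.add_self_eq_zero (f k)
      have hinv : Eqv C V (qprod C V g) (qprod C V g)⁻¹ := by
        have h5 := qprod_add C L hV g g
        rw [show g + g = 0 from funext fun z => CharTwo.add_self_eq_zero _, qprod_zero] at h5
        have h6 := inv_mem h5
        show (qprod C V g)⁻¹ * (qprod C V g)⁻¹ ∈ _
        simpa [mul_inv_rev] using h6
      rw [hnew]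
      refine (qprod_add C L hV _ _).trans ?_
      rw [mul_assoc w]
      refine eqv_mul C L hV (qprod_mem C _) (conj_wprod_qprod C L hV hM hgs).symm ?_
      exact (qprod_add C L hV _ _).trans (eqv_mul C L hV hgQ hfe hinv)
    · intro k hk x hx
      by_cases h0 : ip D b k = 0
      · simp only [h0, if_true] at hk
        rcases List.mem_cons.1 hx with rfl | hx
        · exact h0
        · exact hf0 k hk x hx
      · simp [h0] at hk

end CfsgLib.InvolLaced
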