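import Cfsg.Agent.Lib.InvolLaced.Roots

/-!
Checked rewriting of products of root involutions: collection, conjugation moves, and the reduction
of an orthogonal set of roots to finitely many representatives.
-/

set_option autoImplicit false
set_option linter.unusedSectionVars false

namespace CfsgLib.InvolLaced

open Cfsg.Lie CfsgLib.ChevStr
open scoped MatrixGroups

/-- The form is non-negative, so the root elements commute. -/
def commB (D : ChevalleyDatum) (r s : ℕ) : Bool :=
  decide (r < D.nroots) && decide (s < D.nroots) && decide (0 ≤ ip D r s)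

/-- The sum of two roots with form `-1`. -/
def sumR (D : ChevalleyDatum) (r s : ℕ) : Option ℕ :=
  match D.chainRoot r s 1 with
  | some k =>
    if decide (r < D.nroots) && decide (s < D.nroots) && decide (k < D.nroots) &&
        decide (ip D r s = -1) &&
        (List.finRange D.rank).all (fun i => decide (cv D k i = cv D r i + cv D s i)) then some k
    else none
  | none => none

/-- Insertion of a root involution into a collected product. -/
def insR (D : ChevalleyDatum) : ℕ → ℕ → List ℕ → List ℕ
  | 0, r, T => r :: T
  | _ + 1, r, [] => [r]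
  | f + 1, r, s :: T =>
    if r = s then T
    else if r < s then r :: s :: T
    else if commB D r s then s :: insR D f r T
    else match sumR D r s with
      | some k => s :: insR D f r (insR D f k T)
      | none => r :: s :: T

/-- Collection of a product of root involutions. -/
def collect (D : ChevalleyDatum) (T : List ℕ) : List ℕ :=
  T.foldr (fun r U => insR D (D.nroots + 1) r U) []

/-- Conjugation by a root involution or by a representative of a fundamental reflection. -/
inductive Move
  | conj (r : ℕ)
  | refl (i : ℕ)

/-- One move followed by collection. -/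
def stepMove (D : ChevalleyDatum) : Move → List ℕ → List ℕ
  | .conj r, T => collect D (r :: T ++ [r])
  | .refl i, T =>
    if decide (i < D.rank) && T.all (fun r => decide (r < D.nroots)) then
      collect D (T.map (D.reflectRoot i))
    else T

/-- A list of moves. -/
def runMoves (D : ChevalleyDatum) (ms : List Move) (T : List ℕ) : List ℕ :=
  ms.foldl (fun U m => stepMove D m U) T

/-- A word in fundamental reflections applied to a root. -/
def applyW (D : ChevalleyDatum) (w : List ℕ) (r : ℕ) : ℕ :=
  w.foldl (fun s i => D.reflectRoot i s) r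

/-- The check of the reduction of orthogonal sets: each extension of a representative by an
orthogonal root is carried to a representative by the reflection word of the certificate. -/
def extCheck (D : ChevalleyDatum) (reps : List (List ℕ)) (cert : List (List (ℕ × List ℕ))) : Bool :=
  (reps.getD 0 [0]).isEmpty &&
  (List.range reps.length).all fun k =>
    (List.range D.nroots).all fun g =>
      !((reps.getD k []).all fun b => decide (ip D g b = 0)) ||
        match (cert.getD k []).getD g (reps.length, []) with
        | (k', w) => decide (k' < reps.length) && w.all (fun i => decide (i < D.rank)) &&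
            ((g :: reps.getD k []).map (applyW D w)).isPerm (reps.getD k' [])

/-- The check that each nonempty representative is carried to one of the final products. -/
def finalCheck (D : ChevalleyDatum) (reps targets : List (List ℕ))
    (cert : List (ℕ × List Move)) : Bool :=
  (List.range reps.length).all fun k =>
    (reps.getD k []).isEmpty ||
      match cert.getD k (targets.length, []) with
      | (j, ms) => decide (j < targets.length) &&
          decide (runMoves D ms (reps.getD k []) = targets.getD j [])

variable {D : ChevalleyDatum} {F : Type*} [Field F] (C : ChevCore D F) (L : LRoot D)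

/-- Conjugacy under the group. -/
def Rel (_C : ChevCore D F) (g h : GL D.Idx F) : Prop := ∃ k ∈ D.group F, k * g * k⁻¹ = h

theorem Rel.refl (g : GL D.Idx F) : Rel C g g := ⟨1, one_mem _, by group⟩

variable {C} in
theorem Rel.symm {g h : GL D.Idx F} (H : Rel C g h) : Rel C h g := by
  obtain ⟨k, hk, rfl⟩ := H
  exact ⟨k⁻¹, inv_mem hk, by group⟩

variable {C} in
theorem Rel.trans {g h l : GL D.Idx F} (H : Rel C g h) (H' : Rel C h l) : Rel C g l := by
  obtain ⟨k, hk, rfl⟩ := H
  obtain ⟨k', hk', rfl⟩ := H'
  exact ⟨k' * k, mul_mem hk' hk, by group⟩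

/-- The product of the root involutions of a list. -/
def wprod (T : List ℕ) : GL D.Idx F := (T.map fun r => C.xGL r 1).prod

theorem wprod_nil : wprod C [] = 1 := rfl

theorem wprod_cons (r : ℕ) (T : List ℕ) : wprod C (r :: T) = C.xGL r 1 * wprod C T := by
  simp [wprod]

theorem wprod_append (S T : List ℕ) : wprod C (S ++ T) = wprod C S * wprod C T := by simp [wprod]

theorem wprod_mem (T : List ℕ) : wprod C T ∈ D.group F :=
  Subgroup.list_prod_mem _ fun x hx => by
    obtain ⟨r, -, rfl⟩ := List.mem_map.1 hx
    exact C.xGL_mem_group r 1

/-- Orthogonal roots. -/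
def OrthL (D : ChevalleyDatum) (T : List ℕ) : Prop :=
  (∀ r ∈ T, r < D.nroots) ∧ T.Pairwise fun a b => ip D a b = 0

variable [CharP F 2]

include L in
theorem wprod_insR : ∀ (f r : ℕ) (T : List ℕ),
    wprod C (insR D f r T) = C.xGL r 1 * wprod C T := by
  intro f
  induction f with
  | zero => intro r T; rw [insR, wprod_cons]
  | succ f ih =>
    intro r T
    match T with
    | [] => rw [insR, wprod_cons]
    | s :: T =>
      rw [insR]
      split_ifs with h1 h2 h3
      · subst h1
        rw [wprod_cons, ← mul_assoc, xGL_mul_self C, one_mul]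
      · rw [wprod_cons]
      · simp only [commB, Bool.and_eq_true, decide_eq_true_eq] at h3
        obtain ⟨⟨hr, hs⟩, hip⟩ := h3
        rw [wprod_cons, ih, wprod_cons, ← mul_assoc, ← mul_assoc,
          (commute_of_ip C L (r := ⟨r, hr⟩) (s := ⟨s, hs⟩) hip 1 1).eq]
      · cases hk : sumR D r s with
        | none => simp only [wprod_cons]
        | some k =>
          simp only [sumR] at hk
          split at hk
          · next k' _ =>
            split_ifs at hk with hc
            obtain rfl : k' = k := Option.some.inj hk
            simp only [Bool.and_eq_true, decide_eq_true_eq, List.all_eq_true, List.mem_finRange,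
              true_implies] at hc
            obtain ⟨⟨⟨⟨hr, hs⟩, hk'⟩, hip⟩, hcv⟩ := hc
            obtain ⟨m, hm, hm2⟩ := exists_sum C L (r := ⟨s, hs⟩) (s := ⟨r, hr⟩)
              (by rwa [L.ip_comm])
            have hmk : (m : ℕ) = k' :=
              L.cv_inj m.isLt hk' (hm.trans (funext fun i => by rw [hcv i]; exact add_comm _ _))
            have h := hm2 1 1
            rw [hmk, mul_one] at h
            simp only [wprod_cons, ih]
            calc C.xGL s 1 * (C.xGL r 1 * (C.xGL k' 1 * wprod C T))
                = C.xGL s 1 * C.xGL r 1 * C.xGL k' 1 * wprod C T := by simp only [mul_assoc]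
              _ = C.xGL r 1 * C.xGL s 1 * wprod C T := by rw [h]
              _ = _ := by rw [mul_assoc]
          · simp at hk

include L in
theorem wprod_collect (T : List ℕ) : wprod C (collect D T) = wprod C T := by
  induction T with
  | nil => rfl
  | cons r T ih =>
    rw [collect, List.foldr_cons, wprod_insR C L, wprod_cons]
    exact congrArg _ ih

theorem wprod_map_refl (i : Fin D.rank) {T : List ℕ} (hT : ∀ r ∈ T, r < D.nroots) :
    C.nS i * wprod C T * (C.nS i)⁻¹ = wprod C (T.map (D.reflectRoot i.val)) := by
  induction T with
  | nil => simp [wprod]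
  | cons r T ih =>
    have h := nS_conj C i ⟨r, hT r (List.mem_cons_self ..)⟩ 1
    rw [C.hR.sPerm_val] at h
    rw [List.map_cons, wprod_cons, wprod_cons,
      ← ih fun s hs => hT s (List.mem_cons_of_mem _ hs), ← h]
    group

include L in
theorem rel_stepMove (m : Move) (T : List ℕ) : Rel C (wprod C T) (wprod C (stepMove D m T)) := by
  cases m with
  | conj r =>
    refine ⟨C.xGL r 1, C.xGL_mem_group r 1, ?_⟩
    rw [stepMove, wprod_collect C L, wprod_append, wprod_cons, wprod_cons, wprod_nil,
      C.xGL_inv, CharTwo.neg_eq, mul_one]
  | refl i =>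
    rw [stepMove]
    split_ifs with h
    · simp only [Bool.and_eq_true, decide_eq_true_eq, List.all_eq_true] at h
      refine ⟨C.nS ⟨i, h.1⟩, C.nGL_mem_group _ _, ?_⟩
      rw [wprod_collect C L, wprod_map_refl C ⟨i, h.1⟩ h.2]
    · exact Rel.refl C _

include L in
theorem rel_runMoves : ∀ (ms : List Move) (T : List ℕ),
    Rel C (wprod C T) (wprod C (runMoves D ms T)) := by
  intro ms
  induction ms with
  | nil => intro T; exact Rel.refl C _
  | cons m ms ih => intro T; exact (rel_stepMove C L m T).trans (ih _)

include C in
omit [CharP F 2] in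
theorem applyW_lt : ∀ (w : List ℕ) {r : ℕ}, (∀ i ∈ w, i < D.rank) → r < D.nroots →
    applyW D w r < D.nroots := by
  intro w
  induction w with
  | nil => intro r _ hr; exact hr
  | cons i w ih =>
    intro r hw hr
    exact ih (fun j hj => hw j (List.mem_cons_of_mem _ hj))
      (C.hR.refl_lt ⟨i, hw i (List.mem_cons_self ..)⟩ r hr)

include C L in
omit [CharP F 2] in
theorem ip_applyW : ∀ (w : List ℕ) {r s : ℕ}, (∀ i ∈ w, i < D.rank) → r < D.nroots →
    s < D.nroots → ip D (applyW D w r) (applyW D w s) = ip D r s := by
  intro w
  induction w with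
  | nil => intro r s _ _ _; rfl
  | cons i w ih =>
    intro r s hw hr hs
    have hi := hw i (List.mem_cons_self ..)
    have h := ip_sPerm C L ⟨i, hi⟩ ⟨r, hr⟩ ⟨s, hs⟩
    rw [C.hR.sPerm_val, C.hR.sPerm_val] at h
    rw [← h]
    exact ih (fun j hj => hw j (List.mem_cons_of_mem _ hj))
      (C.hR.refl_lt ⟨i, hi⟩ r hr) (C.hR.refl_lt ⟨i, hi⟩ s hs)

theorem rel_applyW : ∀ (w : List ℕ) {T : List ℕ}, (∀ i ∈ w, i < D.rank) →
    (∀ r ∈ T, r < D.nroots) → Rel C (wprod C T) (wprod C (T.map (applyW D w))) := by
  intro w
  induction w with
  | nil =>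
    intro T _ _
    rw [show T.map (applyW D []) = T from List.map_id' T]
    exact Rel.refl C _
  | cons i w ih =>
    intro T hw hT
    have hi := hw i (List.mem_cons_self ..)
    have h1 : Rel C (wprod C T) (wprod C (T.map (D.reflectRoot i))) :=
      ⟨C.nS ⟨i, hi⟩, C.nGL_mem_group _ _, wprod_map_refl C ⟨i, hi⟩ hT⟩
    have h2 := ih (T := T.map (D.reflectRoot i)) (fun j hj => hw j (List.mem_cons_of_mem _ hj))
      fun r hr => by
        obtain ⟨s, hs, rfl⟩ := List.mem_map.1 hr
        exact C.hR.refl_lt ⟨i, hi⟩ s (hT s hs)
    rw [List.map_map] at h2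
    exact h1.trans h2

include L in
theorem wprod_perm {T U : List ℕ} (hT : OrthL D T) (hp : T.Perm U) : wprod C T = wprod C U := by
  refine (hp.map _).prod_eq' ?_
  refine List.pairwise_map.2 (hT.2.imp_of_mem fun {a b} ha hb hab => ?_)
  exact commute_of_ip C L (r := ⟨a, hT.1 a ha⟩) (s := ⟨b, hT.1 b hb⟩) (le_of_eq hab.symm) 1 1

include C L in
/-- Orthogonal sets are carried to the representatives by words in fundamental reflections. -/
theorem exists_word_rep {reps : List (List ℕ)} {cert : List (List (ℕ × List ℕ))}
    (h : extCheck D reps cert = true) : ∀ T, OrthL D T → ∃ k < reps.length, ∃ w : List ℕ,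
      (∀ i ∈ w, i < D.rank) ∧ (T.map (applyW D w)).Perm (reps.getD k []) := by
  simp only [extCheck, Bool.and_eq_true, List.all_eq_true, List.mem_range, Bool.or_eq_true,
    Bool.not_eq_true', List.isEmpty_iff] at h
  obtain ⟨h0, h⟩ := h
  intro T
  induction T with
  | nil =>
    intro _
    cases hl : reps with
    | nil => simp [hl] at h0
    | cons a as =>
      refine ⟨0, by simp, [], by simp, ?_⟩
      simp [hl] at h0
      simp [h0]
  | cons b T ih =>
    intro hT
    have hb := hT.1 b (List.mem_cons_self ..)
    obtain ⟨hbT, hTp⟩ := List.pairwise_cons.1 hT.2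
    obtain ⟨k, hk, w, hw, hperm⟩ := ih ⟨fun r hr => hT.1 r (List.mem_cons_of_mem _ hr), hTp⟩
    have hg := applyW_lt C w hw hb
    have horth : ∀ x ∈ reps.getD k [], ip D (applyW D w b) x = 0 := by
      intro x hx
      obtain ⟨y, hy, rfl⟩ := List.mem_map.1 (hperm.symm.subset hx)
      rw [ip_applyW C L w hw hb (hT.1 y (List.mem_cons_of_mem _ hy))]
      exact hbT y hy
    have h' := h k hk (applyW D w b) hg
    rcases h' with h' | h'
    · rw [List.all_eq_false] at h'
      obtain ⟨x, hx, hne⟩ := h'
      exact absurd (horth x hx) (by simpa using hne)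
    · obtain ⟨k', w', he⟩ : ∃ k' w', (cert.getD k []).getD (applyW D w b) (reps.length, []) = (k', w') :=
        ⟨_, _, rfl⟩
      rw [he] at h'
      simp only [Bool.and_eq_true, decide_eq_true_eq, List.all_eq_true, List.isPerm_iff] at h'
      refine ⟨k', h'.1.1, w ++ w', fun i hi => ?_, ?_⟩
      · rcases List.mem_append.1 hi with hi | hi
        · exact hw i hi
        · exact h'.1.2 i hi
      · have hcomp : ∀ r, applyW D (w ++ w') r = applyW D w' (applyW D w r) := fun r => by
          simp [applyW, List.foldl_append]
        refine List.Perm.trans ?_ h'.2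
        rw [List.map_cons, List.map_cons, hcomp]
        refine List.Perm.cons _ ?_
        rw [show T.map (applyW D (w ++ w')) = (T.map (applyW D w)).map (applyW D w') by
          rw [List.map_map]; exact List.map_congr_left fun r _ => hcomp r]
        exact hperm.map _

include L in
/-- A product over a nonempty orthogonal set is conjugate to one of the final products. -/
theorem exists_target {reps targets : List (List ℕ)} {cert : List (List (ℕ × List ℕ))}
    {fin : List (ℕ × List Move)} (h : extCheck D reps cert = true)
    (h' : finalCheck D reps targets fin = true) {T : List ℕ} (hT : OrthL D T) (hne : T ≠ []) :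
    ∃ j < targets.length, Rel C (wprod C T) (wprod C (targets.getD j [])) := by
  obtain ⟨k, hk, w, hw, hperm⟩ := exists_word_rep C L h T hT
  simp only [finalCheck, List.all_eq_true, List.mem_range, Bool.or_eq_true, List.isEmpty_iff] at h'
  have h1 := h' k hk
  rcases h1 with h1 | h1
  · rw [h1] at hperm
    exact absurd (List.map_eq_nil_iff.1 hperm.eq_nil) hne
  · obtain ⟨j, ms, he⟩ : ∃ j ms, fin.getD k (targets.length, []) = (j, ms) := ⟨_, _, rfl⟩
    rw [he] at h1
    simp only [Bool.and_eq_true, decide_eq_true_eq] at h1
    refine ⟨j, h1.1, (rel_applyW C w hw hT.1).trans ?_⟩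
    have horth : OrthL D (T.map (applyW D w)) := by
      refine ⟨fun r hr => ?_, List.pairwise_map.2 (hT.2.imp_of_mem fun {a b} ha hb hab => ?_)⟩
      · obtain ⟨s, hs, rfl⟩ := List.mem_map.1 hr
        exact applyW_lt C w hw (hT.1 s hs)
      · rw [ip_applyW C L w hw (hT.1 a ha) (hT.1 b hb), hab]
    rw [wprod_perm C L horth hperm, ← h1.2]
    exact rel_runMoves C L ms _

end CfsgLib.InvolLaced
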