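import Cfsg.Agent.Lib.InvolLaced.Roots
import Cfsg.Agent.Lib.ChevStr.Unipotent
import Cfsg.Agent.Lib.InvolLaced.Moves

/-!
Grading of the positive roots by a fundamental root: closed sets, the abelian layer of roots of degree
one and its coordinates.
-/

set_option autoImplicit false
set_option linter.unusedSectionVars false

namespace CfsgLib.InvolLaced

open Cfsg.Lie CfsgLib.ChevStr
open scoped MatrixGroups

variable {D : ChevalleyDatum} {F : Type*} [Field F] (C : ChevCore D F) (L : LRoot D)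

include C L in
theorem α_eq_cv (r : Fin D.nroots) : C.R.α r = cv D r := by
  obtain ⟨w, hw, k, rfl⟩ := C.exists_simple_image r
  have : ∀ w ∈ C.hR.weyl, ∀ r : Fin D.nroots, C.R.α r = cv D r → C.R.α (w r) = cv D (w r) := by
    refine C.hR.weyl_induction
      (P := fun w => ∀ r : Fin D.nroots, C.R.α r = cv D r → C.R.α (w r) = cv D (w r))
      (fun r h => h) ?_
    rintro v - i ih r h
    rw [Equiv.Perm.mul_apply]
    refine ih _ ?_
    rw [cv_sPerm C L, C.hR.sPerm_val, C.hR.α_refl i r r.isLt, h]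
  exact this w hw _ (by rw [C.R.α_simple, L.cv_simple])

section CharTwo

variable [CharP F 2]

include C L in
theorem ip_cases {r s : Fin D.nroots} (h1 : s ≠ r) (h2 : s ≠ negF C r) :
    -1 ≤ ip D r s ∧ ip D r s ≤ 1 := by
  rcases rules C L r s h1 h2 with ⟨ha, hb, -⟩ | ⟨ha, -⟩ <;> omega

include C L in
theorem eq_of_ip_two {r s : Fin D.nroots} (h : 2 ≤ ip D r s) : s = r := by
  by_contra h1
  by_cases h2 : s = negF C r
  · rw [h2, L.ip_comm r (negF C r), ip_negF C L, ip_self C L] at h
    omega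
  · have := (ip_cases C L h1 h2).2
    omega

include C L in
theorem ip_ne_zero_of_self (r : Fin D.nroots) : cv D r ≠ 0 := by
  intro h
  have := ip_self C L r
  rw [L.ip_eq r.isLt, h] at this
  simp [bil] at this

include C L in
/-- A combination of two roots with non-negative or minus one form is their sum. -/
theorem combo_cases {r s k : Fin D.nroots} (hk : C.R.IsCombo r s k)
    (hpos : D.IsPosRoot r ∧ D.IsPosRoot s) : ip D r s = -1 ∧ cv D k = cv D r + cv D s := by
  obtain ⟨-, a, b, ha, hb, hab⟩ := hk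
  rw [α_eq_cv C L, α_eq_cv C L, α_eq_cv C L] at hab
  have h1 := ip_self C L r
  have h2 := ip_self C L s
  have h3 := ip_self C L k
  rw [L.ip_eq k.isLt, hab, bil_add_left, bil_smul_left, bil_smul_left, L.bil_comm (cv D r),
    L.bil_comm (cv D s), bil_add_left, bil_add_left, bil_smul_left, bil_smul_left,
    bil_smul_left, bil_smul_left, ← L.ip_eq r.isLt, ← L.ip_eq r.isLt, ← L.ip_eq s.isLt,
    ← L.ip_eq s.isLt, L.ip_comm s r, h1, h2] at h3
  have hne : s ≠ negF C r := fun e => by
    have hn : D.IsNegRoot s := by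
      rw [e]
      exact (C.R.isNeg_neg_iff r.isLt).2 hpos.1
    exact C.R.not_pos_and_neg hpos.2 hn
  have ha' : (1 : ℤ) ≤ a := by omega
  have hb' : (1 : ℤ) ≤ b := by omega
  have hlo : -1 ≤ ip D r s := by
    by_cases e : s = r
    · rw [e, h1]; norm_num
    · exact (ip_cases C L e hne).1
  have hab1 : ip D r s = -1 ∧ (a : ℤ) = 1 ∧ (b : ℤ) = 1 := by
    have hneg : ip D r s < 0 := by
      by_contra hnn
      have h4 : 0 ≤ ip D r s * ((a : ℤ) * b) := mul_nonneg (not_lt.1 hnn) (by positivity)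
      nlinarith [mul_le_mul ha' ha' zero_le_one (by positivity : (0 : ℤ) ≤ a),
        mul_le_mul hb' hb' zero_le_one (by positivity : (0 : ℤ) ≤ b)]
    have hm : ip D r s = -1 := by omega
    rw [hm] at h3
    have hab' : (1 : ℤ) ≤ (a : ℤ) * b := by nlinarith
    have hprod : (a : ℤ) * b = 1 := by nlinarith [sq_nonneg ((a : ℤ) - b)]
    refine ⟨hm, ?_, ?_⟩ <;> nlinarith [sq_nonneg ((a : ℤ) - b)]
  refine ⟨hab1.1, ?_⟩
  rw [hab, hab1.2.1, hab1.2.2, one_smul, one_smul]

end CharTwo

/-- A set of root indices as a set of natural numbers. -/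
def natSet (p : Fin D.nroots → Prop) : Set ℕ := {r | ∃ h : r < D.nroots, p ⟨r, h⟩}

theorem mem_natSet {p : Fin D.nroots → Prop} {r : Fin D.nroots} : r.val ∈ natSet p ↔ p r :=
  ⟨fun ⟨_, h⟩ => h, fun h => ⟨r.isLt, h⟩⟩

/-- The subgroup generated by the root elements of a set of roots. -/
def UP (p : Fin D.nroots → Prop) : Subgroup (GL D.Idx F) := C.Ucl (natSet p)

theorem mem_UP {p : Fin D.nroots → Prop} {r : Fin D.nroots} (h : p r) (t : F) :
    C.xGL r t ∈ UP C p := C.xGL_mem_Ucl (mem_natSet.2 h) t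

theorem UP_le {p : Fin D.nroots → Prop} {H : Subgroup (GL D.Idx F)}
    (h : ∀ r, p r → ∀ t, C.xGL (r : Fin D.nroots) t ∈ H) : UP C p ≤ H :=
  C.Ucl_le fun r ⟨hr, hp⟩ t => h ⟨r, hr⟩ hp t

theorem UP_mono {p q : Fin D.nroots → Prop} (h : ∀ r, p r → q r) : UP C p ≤ UP C q :=
  UP_le C fun r hr t => mem_UP C (h r hr) t

include L in
theorem isClosed_natSet [CharP F 2] {p : Fin D.nroots → Prop}
    (hpos : ∀ r, p r → D.IsPosRoot r.val)
    (hsum : ∀ r s k, p r → p s → ip D (r : Fin D.nroots) (s : Fin D.nroots) = -1 →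
      cv D (k : Fin D.nroots) = cv D r + cv D s → p k) :
    C.R.IsClosed (natSet p) := by
  refine ⟨fun r ⟨h, hp⟩ => hpos ⟨r, h⟩ hp, fun r ⟨hr, hpr⟩ s ⟨hs, hps⟩ k hk => ⟨hk.1, ?_⟩⟩
  obtain ⟨h1, h2⟩ := combo_cases C L (r := ⟨r, hr⟩) (s := ⟨s, hs⟩) (k := ⟨k, hk.1⟩) hk
    ⟨hpos _ hpr, hpos _ hps⟩
  exact hsum _ _ _ hpr hps h1 h2

/-- The degree data: the peeled fundamental roots and the next one. -/
structure Lev (D : ChevalleyDatum) where
  P : List (Fin D.rank)
  a : Fin D.rank

namespace Lev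

variable (V : Lev D)

/-- Coefficients vanish at the peeled fundamental roots. -/
def pz (r : Fin D.nroots) : Prop := ∀ j ∈ V.P, cv D r j = 0

/-- The degree. -/
def deg (r : Fin D.nroots) : ℤ := cv D r V.a

/-- The roots of the Levi part. -/
def inM (r : Fin D.nroots) : Prop := V.pz r ∧ V.deg r = 0

/-- The roots of degree one. -/
def inQ1 (r : Fin D.nroots) : Prop := V.pz r ∧ V.deg r = 1

/-- The roots of positive degree. -/
def inQ (r : Fin D.nroots) : Prop := V.pz r ∧ 1 ≤ V.deg r

/-- The roots of degree two. -/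
def inZ (r : Fin D.nroots) : Prop := V.pz r ∧ 2 ≤ V.deg r

instance : DecidablePred V.pz := fun _ => inferInstanceAs (Decidable (∀ j ∈ V.P, _))
instance : DecidablePred V.inQ1 := fun _ => inferInstanceAs (Decidable (_ ∧ _))

/-- The check of a level. -/
def check : Bool :=
  let ok := fun r : ℕ => V.P.all fun j => decide (cv D r j = 0)
  let top := (List.range D.nroots).filter fun r => ok r && decide (cv D r V.a = 2)
  ((List.range D.nroots).all fun r => !ok r || decide (cv D r V.a ≤ 2)) &&
  decide (top.length ≤ 1) &&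
  top.all fun z => (List.range D.nroots).all fun r => !ok r ||
    ((decide (cv D r V.a ≠ 1) || decide (ip D z r = 1)) &&
      (decide (cv D r V.a ≠ 0) || decide (ip D z r = 0)))

/-- The facts of a checked level. -/
structure Good : Prop where
  deg_le : ∀ r, V.pz r → V.deg r ≤ 2
  top_unique : ∀ r s, V.inZ r → V.inZ s → r = s
  top_one : ∀ z r, V.inZ z → V.inQ1 r → ip D (z : Fin D.nroots) (r : Fin D.nroots) = 1
  top_zero : ∀ z r, V.inZ z → V.inM r → ip D (z : Fin D.nroots) (r : Fin D.nroots) = 0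

theorem Good.ofCheck (h : V.check = true) : V.Good := by
  simp only [check, Bool.and_eq_true, List.all_eq_true, List.mem_range, Bool.or_eq_true,
    decide_eq_true_eq, Bool.not_eq_true', List.all_eq_false, List.mem_filter] at h
  obtain ⟨⟨h1, h2⟩, h3⟩ := h
  have hok : ∀ r : Fin D.nroots, V.pz r → ¬ ∃ j ∈ V.P, ¬ cv D r j = 0 :=
    fun r hr ⟨j, hj, hne⟩ => hne (hr j hj)
  have hle : ∀ r, V.pz r → V.deg r ≤ 2 := fun r hr =>
    (h1 r r.isLt).resolve_left (hok r hr)
  have htop : ∀ r, V.inZ r → r.val < D.nroots ∧ (∀ j ∈ V.P, cv D r j = 0) ∧ cv D r V.a = 2 :=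
    fun r hr => ⟨r.isLt, hr.1, le_antisymm (hle r hr.1) hr.2⟩
  refine ⟨hle, fun r s hr hs => Fin.ext ?_, fun z r hz hr => ?_, fun z r hz hr => ?_⟩
  · generalize hl : (List.range D.nroots).filter (fun r =>
      (V.P.all fun j => decide (cv D r j = 0)) && decide (cv D r V.a = 2)) = l at h2
    have hr' : r.val ∈ l := by
      rw [← hl]; simpa using htop r hr
    have hs' : s.val ∈ l := by
      rw [← hl]; simpa using htop s hs
    match l, h2, hr', hs' with
    | [x], _, hr', hs' => simp_all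
    | x :: y :: l, h2, _, _ => simp at h2
  · have := htop z hz
    exact ((h3 z ⟨this.1, this.2⟩ r r.isLt).resolve_left (hok r hr.1)).1.resolve_left
      (not_not.2 hr.2)
  · have := htop z hz
    exact ((h3 z ⟨this.1, this.2⟩ r r.isLt).resolve_left (hok r hr.1)).2.resolve_left
      (not_not.2 hr.2)

variable {V}

theorem inQ_of_inQ1 {r : Fin D.nroots} (h : V.inQ1 r) : V.inQ r := ⟨h.1, h.2.ge⟩

theorem inQ_of_inZ {r : Fin D.nroots} (h : V.inZ r) : V.inQ r := ⟨h.1, le_trans (by norm_num) h.2⟩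

theorem inQ_cases {r : Fin D.nroots} (h : V.inQ r) : V.inQ1 r ∨ V.inZ r := by
  rcases h.2.eq_or_lt with he | hlt
  · exact Or.inl ⟨h.1, he.symm⟩
  · exact Or.inr ⟨h.1, by omega⟩

theorem pz_sum {r s k : Fin D.nroots} (h : cv D k = cv D r + cv D s) (hr : V.pz r) (hs : V.pz s) :
    V.pz k ∧ V.deg k = V.deg r + V.deg s :=
  ⟨fun j hj => by rw [h, Pi.add_apply, hr j hj, hs j hj, add_zero], by rw [deg, h]; rfl⟩

include C L in
theorem pos_of_inQ {r : Fin D.nroots} (h : V.inQ r) : D.IsPosRoot r.val := by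
  refine (C.R.pos_or_neg r.isLt).resolve_right fun hn => ?_
  have h1 := ((C.R.isNeg_iff r.val).1 hn).2 V.a
  have h2 : 1 ≤ cv D r.val V.a := h.2
  rw [← α_eq_cv C L r] at h2
  simp only [Pi.zero_apply] at h1
  omega

include C L in
theorem ne_negF {r s : Fin D.nroots} (hr : V.inQ r) (hs : V.inQ s) : s ≠ negF C r := by
  rintro rfl
  have h := hs.2
  rw [deg, show ((negF C r : Fin D.nroots) : ℕ) = D.neg r from rfl, L.cv_neg r r.isLt,
    Pi.neg_apply] at h
  have := hr.2
  rw [deg] at this
  omega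

include C L in
theorem inQ_sum {r s k : Fin D.nroots} (hr : V.inQ r) (hs : V.inQ s)
    (h : cv D k = cv D r + cv D s) : V.inQ k := by
  obtain ⟨h1, h2⟩ := pz_sum h hr.1 hs.1
  exact ⟨h1, by have := hr.2; have := hs.2; omega⟩

end Lev

variable [CharP F 2] {V : Lev D} (hV : V.Good)

include L in
theorem closed_Q : C.R.IsClosed (natSet V.inQ) :=
  isClosed_natSet C L (fun _ h => Lev.pos_of_inQ C L h)
    fun _ _ _ hr hs _ h => Lev.inQ_sum C L hr hs h

include L hV in
theorem sum_inZ {r s k : Fin D.nroots} (hr : V.inQ r) (hs : V.inQ s)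
    (h : cv D k = cv D r + cv D s) : V.inZ k ∧ V.inQ1 r ∧ V.inQ1 s := by
  obtain ⟨h1, h2⟩ := Lev.pz_sum h hr.1 hs.1
  have := hV.deg_le k h1
  have := hr.2
  have := hs.2
  exact ⟨⟨h1, by omega⟩, ⟨hr.1, by omega⟩, ⟨hs.1, by omega⟩⟩

include L hV in
theorem closed_Z : C.R.IsClosed (natSet V.inZ) :=
  isClosed_natSet C L (fun _ h => Lev.pos_of_inQ C L (Lev.inQ_of_inZ h))
    fun _ _ _ hr hs _ h => (sum_inZ L hV (Lev.inQ_of_inZ hr) (Lev.inQ_of_inZ hs) h).1

include L hV in
/-- Root elements of degree two commute with the roots of positive degree. -/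
theorem commute_top {z r : Fin D.nroots} (hz : V.inZ z) (hr : V.inQ r) (t u : F) :
    Commute (C.xGL z t) (C.xGL r u) := by
  refine commute_of_ip C L ?_ t u
  rcases Lev.inQ_cases hr with h | h
  · rw [hV.top_one z r hz h]; norm_num
  · rw [hV.top_unique z r hz h, ip_self C L]; norm_num

include L hV in
theorem UP_Z_central {g z : GL D.Idx F} (hg : g ∈ UP C V.inQ) (hz : z ∈ UP C V.inZ) :
    g * z = z * g := by
  have h1 : UP C V.inQ ≤ Subgroup.centralizer (UP C V.inZ : Set (GL D.Idx F)) := by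
    refine UP_le C fun r hr t => Subgroup.mem_centralizer_iff.2 fun y hy => ?_
    have h2 : UP C V.inZ ≤ Subgroup.centralizer ({C.xGL r t} : Set (GL D.Idx F)) :=
      UP_le C fun s hs u => Subgroup.mem_centralizer_iff.2 fun w hw => by
        rw [Set.mem_singleton_iff] at hw
        subst hw
        exact (commute_top C L hV hs hr u t).symm.eq
    exact ((Subgroup.mem_centralizer_iff.1 (h2 hy)) _ rfl).symm
  exact ((Subgroup.mem_centralizer_iff.1 (h1 hg)) z hz).symm

/-- The ordered list of the roots of degree one. -/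
def q1List (V : Lev D) : List (Fin D.nroots) :=
  (List.finRange D.nroots).filter fun r => decide (V.inQ1 r)

theorem mem_q1List {r : Fin D.nroots} : r ∈ q1List V ↔ V.inQ1 r := by simp [q1List]

/-- The product of degree one root elements with given coordinates. -/
def qprod (V : Lev D) (f : Fin D.nroots → F) : GL D.Idx F :=
  ((q1List V).map fun q : Fin D.nroots => C.xGL q (f q)).prod

theorem qprod_mem (f : Fin D.nroots → F) : qprod C V f ∈ UP C V.inQ :=
  Subgroup.list_prod_mem _ fun x hx => by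
    obtain ⟨q, hq, rfl⟩ := List.mem_map.1 hx
    exact mem_UP C (Lev.inQ_of_inQ1 (mem_q1List.1 hq)) _

theorem qprod_mem_of_supp (f : Fin D.nroots → F) {p : Fin D.nroots → Prop}
    (h : ∀ q, V.inQ1 q → f q ≠ 0 → p q) : qprod C V f ∈ UP C p :=
  Subgroup.list_prod_mem _ fun x hx => by
    obtain ⟨q, hq, rfl⟩ := List.mem_map.1 hx
    by_cases hf : f q = 0
    · rw [hf, C.xGL_zero]; exact one_mem _
    · exact mem_UP C (h q (mem_q1List.1 hq) hf) _

/-- The congruence modulo the degree two subgroup. -/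
def Eqv (V : Lev D) (g h : GL D.Idx F) : Prop := g⁻¹ * h ∈ UP C V.inZ

theorem Eqv.refl (g : GL D.Idx F) : Eqv C V g g := by simp [Eqv]

variable {C} in
theorem Eqv.symm {g h : GL D.Idx F} (H : Eqv C V g h) : Eqv C V h g := by
  have := inv_mem H
  rwa [mul_inv_rev, inv_inv] at this

variable {C} in
theorem Eqv.trans {g h l : GL D.Idx F} (H : Eqv C V g h) (H' : Eqv C V h l) : Eqv C V g l := by
  have := mul_mem H H'
  rwa [mul_assoc, mul_inv_cancel_left] at this

include L hV in
theorem eqv_mul {g g' h h' : GL D.Idx F} (hh : h ∈ UP C V.inQ) (H : Eqv C V g g')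
    (H' : Eqv C V h h') : Eqv C V (g * h) (g' * h') := by
  have e : (g * h)⁻¹ * (g' * h') = g⁻¹ * g' * (h⁻¹ * h') := by
    rw [show (g * h)⁻¹ * (g' * h') = h⁻¹ * (g⁻¹ * g') * h' by group,
      UP_Z_central C L hV (inv_mem hh) H]
    group
  show (g * h)⁻¹ * (g' * h') ∈ _
  rw [e]
  exact mul_mem H H'

include L hV in
theorem eqv_swap {q q' : Fin D.nroots} (hq : V.inQ q) (hq' : V.inQ q') (t u : F) :
    Eqv C V (C.xGL q t * C.xGL q' u) (C.xGL q' u * C.xGL q t) := by
  by_cases h : 0 ≤ ip D q q'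
  · rw [(commute_of_ip C L h t u).eq]
    exact Eqv.refl C _
  · have hne : q' ≠ q := fun e => h (by rw [e, ip_self C L]; norm_num)
    have hm : ip D q q' = -1 := by
      have := (ip_cases C L hne (Lev.ne_negF C L hq hq')).1
      omega
    obtain ⟨k, hk, hc⟩ := exists_sum C L hm
    show _ ∈ UP C V.inZ
    rw [hc t u, ← mul_assoc, inv_mul_cancel, one_mul]
    exact mem_UP C (sum_inZ L hV hq hq' hk).1 _

include L hV in
theorem eqv_comm {g h : GL D.Idx F} (hg : g ∈ UP C V.inQ) (hh : h ∈ UP C V.inQ) :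
    Eqv C V (g * h) (h * g) := by
  have key : ∀ q, V.inQ q → ∀ (t : F), ∀ h ∈ UP C V.inQ,
      Eqv C V (C.xGL (q : Fin D.nroots) t * h) (h * C.xGL (q : Fin D.nroots) t) := by
    intro q hq t h hh
    refine Subgroup.closure_induction
      (p := fun h _ => Eqv C V (C.xGL q t * h) (h * C.xGL q t)) ?_ ?_ ?_ ?_ hh
    · rintro _ ⟨s, ⟨hs, hsQ⟩, u, rfl⟩
      exact eqv_swap C L hV hq hsQ t u
    · simpa using Eqv.refl C _
    · intro x y hx hy ihx ihy
      have h1 : Eqv C V (C.xGL q t * x * y) (x * C.xGL q t * y) :=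
        eqv_mul C L hV hy ihx (Eqv.refl C _)
      have h2 : Eqv C V (x * (C.xGL q t * y)) (x * (y * C.xGL q t)) :=
        eqv_mul C L hV (mul_mem (mem_UP C hq t) hy) (Eqv.refl C _) ihy
      simpa only [mul_assoc] using h1.trans (by simpa only [mul_assoc] using h2)
    · intro x hx ihx
      have hx' : x ∈ UP C V.inQ := hx
      have h1 : Eqv C V (x⁻¹ * (C.xGL q t * x) * x⁻¹) (x⁻¹ * (x * C.xGL q t) * x⁻¹) :=
        eqv_mul C L hV (inv_mem hx')
          (eqv_mul C L hV (mul_mem (mem_UP C hq t) hx') (Eqv.refl C _) ihx) (Eqv.refl C _)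
      simpa [mul_assoc] using h1.symm
  refine Subgroup.closure_induction (p := fun g _ => Eqv C V (g * h) (h * g)) ?_ ?_ ?_ ?_ hg
  · rintro _ ⟨s, ⟨hs, hsQ⟩, u, rfl⟩
    exact key _ hsQ u h hh
  · simpa using Eqv.refl C _
  · intro x y hx hy ihx ihy
    have h1 : Eqv C V (x * (y * h)) (x * (h * y)) :=
      eqv_mul C L hV (mul_mem hy hh) (Eqv.refl C _) ihy
    have h2 : Eqv C V (x * h * y) (h * x * y) := eqv_mul C L hV hy ihx (Eqv.refl C _)
    simp only [← mul_assoc] at h1 ⊢
    exact h1.trans h2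
  · intro x hx ihx
    have hx' : x ∈ UP C V.inQ := hx
    have h1 : Eqv C V (x⁻¹ * (x * h) * x⁻¹) (x⁻¹ * (h * x) * x⁻¹) :=
      eqv_mul C L hV (inv_mem hx')
        (eqv_mul C L hV (mul_mem hx' hh) (Eqv.refl C _) ihx) (Eqv.refl C _)
    simpa [mul_assoc] using h1.symm

include L hV in
theorem qprod_add (f g : Fin D.nroots → F) :
    Eqv C V (qprod C V (f + g)) (qprod C V f * qprod C V g) := by
  have key : ∀ l : List (Fin D.nroots), (∀ q ∈ l, V.inQ q) →
      Eqv C V (l.map fun q => C.xGL q.val ((f + g) q)).prod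
        ((l.map fun q => C.xGL q.val (f q)).prod * (l.map fun q => C.xGL q.val (g q)).prod) := by
    intro l
    induction l with
    | nil => intro _; simpa using Eqv.refl C _
    | cons q l ih =>
      intro hl
      have hq := hl q (List.mem_cons_self ..)
      have ih' := ih fun x hx => hl x (List.mem_cons_of_mem _ hx)
      have hmem : ∀ e : Fin D.nroots → F,
          (l.map fun q => C.xGL q.val (e q)).prod ∈ UP C V.inQ := fun e =>
        Subgroup.list_prod_mem _ fun x hx => by
          obtain ⟨y, hy, rfl⟩ := List.mem_map.1 hx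
          exact mem_UP C (hl y (List.mem_cons_of_mem _ hy)) _
      simp only [List.map_cons, List.prod_cons]
      rw [show (f + g) q = f q + g q from rfl, C.xGL_add]
      have h1 := eqv_mul C L hV (hmem (f + g)) (Eqv.refl C (C.xGL q (f q) * C.xGL q (g q))) ih'
      refine h1.trans ?_
      simp only [mul_assoc]
      refine eqv_mul C L hV (mul_mem (mem_UP C hq _) (mul_mem (hmem f) (hmem g)))
        (Eqv.refl C _) ?_
      simp only [← mul_assoc]
      exact eqv_mul C L hV (hmem g) (eqv_comm C L hV (mem_UP C hq _) (hmem f)) (Eqv.refl C _)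
  exact key _ fun q hq => Lev.inQ_of_inQ1 (mem_q1List.1 hq)

theorem qprod_zero : qprod C V (0 : Fin D.nroots → F) = 1 :=
  List.prod_eq_one fun x hx => by
    obtain ⟨q, -, rfl⟩ := List.mem_map.1 hx
    exact C.xGL_zero _

theorem qprod_single {q : Fin D.nroots} (hq : V.inQ1 q) (a : F) :
    qprod C V (Pi.single q a) = C.xGL q a := by
  have hnd : (q1List V).Nodup := (List.nodup_finRange _).filter _
  have : ∀ l : List (Fin D.nroots), l.Nodup →
      (l.map fun x => C.xGL x.val ((Pi.single q a : Fin D.nroots → F) x)).prod =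
        if q ∈ l then C.xGL q a else 1 := by
    intro l
    induction l with
    | nil => simp
    | cons x l ih =>
      intro hl
      obtain ⟨hx, hl⟩ := List.nodup_cons.1 hl
      rw [List.map_cons, List.prod_cons, ih hl]
      by_cases hxq : x = q
      · subst hxq; simp [hx]
      · simp [hxq, Ne.symm hxq, C.xGL_zero]
  rw [qprod, this _ hnd, if_pos (mem_q1List.2 hq)]

/-- The word on the positive roots with zero coordinates outside a list. -/
theorem word_filter (p : ℕ → Bool) (t : ℕ → F) : ∀ l : List ℕ,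
    C.word (l.filter p) t = C.word l fun r => if p r then t r else 0 := by
  intro l
  induction l with
  | nil => rfl
  | cons a l ih => cases hp : p a <;> simp [hp, C.word_cons, ih, C.xGL_zero]

include L hV in
/-- The coordinates are determined modulo the degree two subgroup. -/
theorem qprod_injective {f g : Fin D.nroots → F} (h : Eqv C V (qprod C V f) (qprod C V g))
    (q : Fin D.nroots) (hq : V.inQ1 q) : f q = g q := by
  classical
  have h0 : qprod C V (f + g) ∈ UP C V.inZ := by
    have hsq : Eqv C V (qprod C V (g + g)) (qprod C V g * qprod C V g) := qprod_add C L hV g g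
    rw [show g + g = 0 from funext fun x => CharTwo.add_self_eq_zero _, qprod_zero] at hsq
    have h2 := (qprod_add C L hV f g).trans
      ((eqv_mul C L hV (qprod_mem C g) h (Eqv.refl C (qprod C V g))).trans hsq.symm)
    have h3 := inv_mem h2
    simpa using h3
  by_contra hne
  have hfq : (f + g) q ≠ 0 := fun e => hne (by
    rwa [Pi.add_apply, add_eq_zero_iff_eq_neg, CharTwo.neg_eq] at e)
  obtain ⟨u, hu⟩ := C.exists_word (L := C.rootList (natSet V.inZ)) (ChevCore.sorted_filter _)
    (by rw [C.setOf_mem_rootList (fun r hr => hr.1)]; exact closed_Z C L hV)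
    _ (by rw [C.setOf_mem_rootList (fun r hr => hr.1)]; exact h0)
  set e : ℕ → F := fun r => if hr : r < D.nroots then (f + g) ⟨r, hr⟩ else 0 with he
  have hw : qprod C V (f + g) = C.word (C.rootList (natSet V.inQ1)) e := by
    have hl : C.rootList (natSet V.inQ1) = (q1List V).map Fin.val := by
      rw [ChevCore.rootList, q1List, ← List.map_coe_finRange_eq_range, List.filter_map]
      refine congrArg _ (List.filter_congr fun r _ => ?_)
      simp only [Function.comp_apply, mem_natSet]
    rw [hl, ChevCore.word, ChevCore.wordGL, qprod, List.map_map, List.map_map]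
    refine congrArg List.prod (List.map_congr_left fun r _ => ?_)
    simp [he]
  rw [hw] at hu
  have key : ∀ (p : ℕ → Prop) [DecidablePred p] (t : ℕ → F), (∀ r, p r → D.IsPosRoot r) →
      C.word ((List.range D.nroots).filter fun r => decide (p r)) t =
        C.word (C.rootList {r | D.IsPosRoot r}) fun r => if p r then t r else 0 := by
    intro p _ t hp
    rw [show ((List.range D.nroots).filter fun r => decide (p r)) =
      (C.rootList {r | D.IsPosRoot r}).filter fun r => decide (p r) from ?_, word_filter C]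
    · congr 1
      funext r
      simp
    · rw [ChevCore.rootList, List.filter_filter]
      refine List.filter_congr fun r _ => ?_
      by_cases hpr : p r
      · simp [hpr, hp r hpr]
      · simp [hpr]
  simp only [ChevCore.rootList] at hu
  rw [key (· ∈ natSet V.inQ1) e (fun r hr => Lev.pos_of_inQ C L (Lev.inQ_of_inQ1 hr.2)),
    key (· ∈ natSet V.inZ) u (fun r hr => Lev.pos_of_inQ C L (Lev.inQ_of_inZ hr.2))] at hu
  have hmem : q.val ∈ C.rootList {r | D.IsPosRoot r} := by
    simp [ChevCore.rootList, Lev.pos_of_inQ C L (Lev.inQ_of_inQ1 hq)]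
  have h4 := C.word_injective (ChevCore.sorted_filter _)
    (fun r hr => by simpa [ChevCore.rootList] using (List.mem_filter.1 hr).2) _ _ hu q hmem
  rw [if_pos (mem_natSet.2 hq), if_neg (fun hz => by
    have h1 := (mem_natSet.1 hz).2
    have h2 := hq.2
    omega)] at h4
  exact hfq (by simpa [he] using h4)

include L hV in
theorem exists_qprod {v : GL D.Idx F} (hv : v ∈ UP C V.inQ) :
    ∃ f : Fin D.nroots → F, Eqv C V (qprod C V f) v := by
  refine Subgroup.closure_induction (p := fun v _ => ∃ f, Eqv C V (qprod C V f) v) ?_ ?_ ?_ ?_ hv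
  · rintro _ ⟨s, ⟨hs, hsQ⟩, u, rfl⟩
    rcases Lev.inQ_cases hsQ with h | h
    · exact ⟨Pi.single ⟨s, hs⟩ u, by rw [qprod_single C h]; exact Eqv.refl C _⟩
    · refine ⟨0, ?_⟩
      show _ ∈ UP C V.inZ
      rw [qprod_zero, inv_one, one_mul]
      exact mem_UP C (r := ⟨s, hs⟩) h u
  · exact ⟨0, by rw [qprod_zero]; exact Eqv.refl C _⟩
  · rintro x y hx hy ⟨f, hf⟩ ⟨g, hg⟩
    exact ⟨f + g, (qprod_add C L hV f g).trans (eqv_mul C L hV (qprod_mem C g) hf hg)⟩
  · rintro x hx ⟨f, hf⟩
    refine ⟨f, ?_⟩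
    have hx' : x ∈ UP C V.inQ := hx
    have h1 : Eqv C V (qprod C V (f + f)) (qprod C V f * x) :=
      (qprod_add C L hV f f).trans (eqv_mul C L hV (qprod_mem C f) (Eqv.refl C _) hf)
    rw [show f + f = 0 from funext fun z => CharTwo.add_self_eq_zero _, qprod_zero] at h1
    have h2 := eqv_mul C L hV (inv_mem hx') h1 (Eqv.refl C x⁻¹)
    rw [one_mul, mul_assoc, mul_inv_cancel, mul_one] at h2
    exact h2.symm

end CfsgLib.InvolLaced
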