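import Cfsg.Agent.Lib.InvolLaced.Clear
import Cfsg.Agent.Lib.ChevStr.Bruhat

/-!
Involutions of a layer orthogonal to given roots are conjugate, by elements centralising those roots,
to products of root involutions of orthogonal roots: elimination with a pivot.
-/

set_option autoImplicit false
set_option linter.unusedSectionVars false

namespace CfsgLib.InvolLaced

open Cfsg.Lie CfsgLib.ChevStr
open scoped MatrixGroups

variable {D : ChevalleyDatum} {F : Type*} [Field F] (C : ChevCore D F) (L : LRoot D)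
  [CharP F 2] {V : Lev D} (hV : V.Good)

/-- The roots without coefficients at the peeled fundamental roots, with the torus. -/
def levGroup (V : Lev D) : Subgroup (GL D.Idx F) :=
  Subgroup.closure {g | ∃ r : Fin D.nroots, V.pz r ∧ ∃ t, g = C.xGL r t} ⊔ (C.R.torus (F := F)).range

theorem xGL_mem_levGroup {r : Fin D.nroots} (h : V.pz r) (t : F) : C.xGL r t ∈ levGroup C V :=
  le_sup_left (b := (C.R.torus (F := F)).range) (Subgroup.subset_closure ⟨r, h, t, rfl⟩)

/-- Centralising the root subgroups of a list. -/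
def CommL (Ls : List (Fin D.nroots)) (h : GL D.Idx F) : Prop :=
  ∀ b ∈ Ls, ∀ t, Commute h (C.xGL (b : Fin D.nroots) t)

theorem CommL.one {Ls : List (Fin D.nroots)} : CommL C Ls 1 := fun _ _ _ => Commute.one_left _

variable {C} in
theorem CommL.mul {Ls : List (Fin D.nroots)} {g h : GL D.Idx F} (hg : CommL C Ls g)
    (hh : CommL C Ls h) : CommL C Ls (g * h) := fun b hb t => (hg b hb t).mul_left (hh b hb t)

include C L in
theorem orthQ_sum {Ls : List (Fin D.nroots)} {r s k : Fin D.nroots} (hr : orthQ V Ls r)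
    (hs : orthQ V Ls s) (h : cv D k = cv D r + cv D s) : orthQ V Ls k :=
  ⟨Lev.inQ_sum C L hr.1 hs.1 h, fun b hb => by
    rw [L.ip_comm, L.bil_cv_add b.isLt h, L.ip_comm r b, L.ip_comm s b, hr.2 b hb, hs.2 b hb]
    norm_num⟩

include L in
/-- A root orthogonal to the list which keeps positive degree normalises the orthogonal layer. -/
theorem conj_orth_mem {Ls : List (Fin D.nroots)} {r : Fin D.nroots} (hr : V.pz r)
    (hd : 0 ≤ V.deg r) (ho : ∀ b ∈ Ls, ip D (b : Fin D.nroots) r = 0) (t : F) {g : GL D.Idx F}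
    (hg : g ∈ UP C (orthQ V Ls)) : C.xGL r t * g * (C.xGL r t)⁻¹ ∈ UP C (orthQ V Ls) := by
  refine conj_mem_UP C L (fun q k hq => ⟨?_, fun _ hk => ⟨?_, fun b hb => ?_⟩⟩) t hg
  · rintro rfl
    have h := hq.1.2
    rw [Lev.deg, show ((negF C r : Fin D.nroots) : ℕ) = D.neg r from rfl, L.cv_neg r r.isLt,
      Pi.neg_apply] at h
    rw [Lev.deg] at hd
    omega
  · obtain ⟨h1, h2⟩ := Lev.pz_sum hk hr hq.1.1
    exact ⟨h1, by have := hq.1.2; omega⟩
  · rw [L.ip_comm, L.bil_cv_add b.isLt hk, L.ip_comm r b, L.ip_comm q b, ho b hb, hq.2 b hb]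
    norm_num

include L in
theorem commL_xGL {Ls : List (Fin D.nroots)} {r : Fin D.nroots}
    (ho : ∀ b ∈ Ls, ip D (b : Fin D.nroots) r = 0) (t : F) : CommL C Ls (C.xGL r t) :=
  fun b hb u => commute_of_ip C L (by rw [L.ip_comm, ho b hb]) t u

include L in
/-- Scaling the coefficient of one root by a torus element fixing the orthogonal roots. -/
theorem exists_scale [Finite F] (w : Fin D.nroots) {a : F} (ha : a ≠ 0) :
    ∃ h, (∀ V : Lev D, h ∈ levGroup C V) ∧ h * C.xGL w a * h⁻¹ = C.xGL w 1 ∧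
      ∀ q : Fin D.nroots, ip D w q = 0 → ∀ t, Commute h (C.xGL q t) := by
  obtain ⟨s, hs⟩ := FiniteField.isSquare_of_char_two (ringChar.eq F 2) (a⁻¹)
  have hs0 : s ≠ 0 := by
    rintro rfl
    rw [mul_zero] at hs
    exact inv_ne_zero ha hs
  set u : Fˣ := Units.mk0 s hs0
  set c : Fin D.rank → Fˣ := fun i => u ^ cv D w i
  have hchar : ∀ q : Fin D.nroots, C.R.torusChar c (C.R.α q) = u ^ ip D w q := by
    intro q
    rw [C.R.torusChar_root c q.isLt, ip]
    have key : ∀ (g : Fin D.rank → ℤ) (S : Finset (Fin D.rank)),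
        u ^ (∑ i ∈ S, g i) = ∏ i ∈ S, u ^ g i := by
      intro g S
      induction S using Finset.induction_on with
      | empty => simp
      | insert i S hi ih => rw [Finset.sum_insert hi, Finset.prod_insert hi, zpow_add, ih]
    rw [key]
    exact Finset.prod_congr rfl fun i _ => (zpow_mul _ _ _).symm
  refine ⟨C.R.torus c, fun V => le_sup_right (a := Subgroup.closure _) ⟨c, rfl⟩, ?_,
    fun q hq t => ?_⟩
  · rw [C.acts_torus c w a, hchar, ip_self C L]
    congr 1
    rw [zpow_ofNat, Units.val_pow_eq_pow_val, Units.val_mk0, pow_two, ← hs, inv_mul_cancel₀ ha]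
  · have := C.acts_torus c q t
    rw [hchar, hq, zpow_zero, Units.val_one, one_mul] at this
    exact mul_inv_eq_iff_eq_mul.1 this

include L in
theorem eq_zero_of_xGL {r : Fin D.nroots} (hr : D.IsPosRoot r.val) {t : F}
    (h : C.xGL r t = 1) : t = 0 := by
  have h' := C.word_injective (L := [r.val]) (List.pairwise_singleton _ _)
    (fun s hs => by rw [List.mem_singleton] at hs; exact hs ▸ hr) (fun _ => t) (fun _ => 0)
    (by simp [C.word_cons, C.word_nil, C.xGL_zero, h]) r.val (List.mem_singleton_self _)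
  exact h'

include L hV in
/-- Elimination of the coordinates with form one against the pivot. -/
theorem exists_eliminate {Ls : List (Fin D.nroots)} {w : Fin D.nroots} (hw : V.inQ1 w)
    (how : orthQ V Ls w) : ∀ (l : List (Fin D.nroots)) {v : GL D.Idx F}, v ∈ UP C (orthQ V Ls) →
      ∀ f : Fin D.nroots → F, Supp V f → (∀ q, f q ≠ 0 → orthQ V Ls q) → f w ≠ 0 →
        Eqv C V (qprod C V f) v →
      ∃ h ∈ levGroup C V, CommL C Ls h ∧ h * v * h⁻¹ ∈ UP C (orthQ V Ls) ∧
        ∃ f' : Fin D.nroots → F, Supp V f' ∧ (∀ q, f' q ≠ 0 → orthQ V Ls q) ∧ f' w = f w ∧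
          Eqv C V (qprod C V f') (h * v * h⁻¹) ∧
          ∀ q ∈ l, ip D w (q : Fin D.nroots) = 1 → f' q = 0 := by
  intro l
  induction l with
  | nil =>
    intro v hv f hfs hfp _ hf
    exact ⟨1, one_mem _, CommL.one C, by simpa using hv, f, hfs, hfp, rfl,
      by simpa using hf, fun q hq => absurd hq List.not_mem_nil⟩
  | cons q l ih =>
    intro v hv f hfs hfp hfw hf
    obtain ⟨h, hh, hhc, hhv, f', hfs', hfp', hfw', hf', hz⟩ := ih hv f hfs hfp hfw hf
    by_cases hq : ip D w q = 1 ∧ f' q ≠ 0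
    swap
    · refine ⟨h, hh, hhc, hhv, f', hfs', hfp', hfw', hf', fun x hx h1 => ?_⟩
      rcases List.mem_cons.1 hx with rfl | hx
      · by_contra hne; exact hq ⟨h1, hne⟩
      · exact hz x hx h1
    obtain ⟨hq1, hqf⟩ := hq
    have hqQ : V.inQ1 q := by
      by_contra hn; exact hqf (hfs' q hn)
    have hqo := hfp' q hqf
    obtain ⟨r, hr, -⟩ := exists_sum C L (r := negF C w) (s := q)
      (by rw [ip_negF C L, hq1])
    have hn : cv D (negF C w : Fin D.nroots) = -cv D w := L.cv_neg w w.isLt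
    have hrM : V.inM r := by
      refine ⟨fun i hi => ?_, ?_⟩
      · rw [hr, Pi.add_apply, hn, Pi.neg_apply, hw.1 i hi, hqQ.1 i hi]; norm_num
      · show cv D r V.a = 0
        rw [hr, Pi.add_apply, hn, Pi.neg_apply, show cv D w V.a = 1 from hw.2,
          show cv D q V.a = 1 from hqQ.2]
        norm_num
    have hro : ∀ b ∈ Ls, ip D (b : Fin D.nroots) r = 0 := fun b hb => by
      rw [L.ip_comm, L.bil_cv_add b.isLt hr, ip_negF C L, L.ip_comm w b, L.ip_comm q b,
        how.2 b hb, hqo.2 b hb]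
      norm_num
    have hrx : ∀ x : Fin D.nroots, ip D r x = ip D q x - ip D w x := fun x => by
      rw [L.bil_cv_add x.isLt hr, ip_negF C L]
      ring
    set a := f w with ha
    set t := f' q / a with ht
    set f'' := f' + t • shift C V r f' with hf''
    have hrq : ip D r q = 1 := by rw [hrx, ip_self C L, hq1]; norm_num
    have hplus : plus D (negF C r) q = w := by
      obtain ⟨-, hc, -⟩ := plus_spec C L hrM hqQ hrq
      refine Fin.ext (L.cv_inj (Fin.isLt _) w.isLt ?_)
      rw [hr, hn] at hc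
      have : cv D (plus D (negF C r) q) - cv D w = 0 := by linear_combination -hc
      exact sub_eq_zero.1 this
    have hkeep : ∀ x : Fin D.nroots, (x = w ∨ (x ≠ q ∧ ip D w x = 1)) → f'' x = f' x := by
      intro x hx
      rw [hf'', Pi.add_apply, Pi.smul_apply, shift]
      split_ifs with hc
      · exfalso
        rcases hx with rfl | ⟨hne, hx1⟩
        · rw [hrx, ip_self C L, L.ip_comm q x, hq1] at hc
          norm_num at hc
        · obtain ⟨-, hcx, hjx⟩ := plus_spec C L hrM hc.2 hc.1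
          have h1 := hjx w
          rw [hx1, L.ip_comm w r, hrx, ip_self C L, L.ip_comm q w, hq1] at h1
          have hj : plus D (negF C r) x = w := eq_of_ip_two C L (by rw [h1]; norm_num)
          refine hne (Fin.ext (L.cv_inj x.isLt q.isLt ?_))
          rw [hcx, hj, hr, hn]
          abel
      · simp
    have hx := conj_qprod C L hV hrM t f' hfs'
    have hx2 := eqv_conj C (x := C.xGL r t) (fun z hz => conj_M_mem_Z C L hV hrM t hz) hf'
    refine ⟨C.xGL r t * h, mul_mem (xGL_mem_levGroup C hrM.1 t) hh, (commL_xGL C L hro t).mul hhc,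
      ?_, f'', ?_, ?_, ?_, ?_, ?_⟩
    · rw [show C.xGL r t * h * v * (C.xGL r t * h)⁻¹ = C.xGL r t * (h * v * h⁻¹) * (C.xGL r t)⁻¹
        by group]
      exact conj_orth_mem C L hrM.1 (le_of_eq hrM.2.symm) hro t hhv
    · intro x hx'
      rw [hf'', Pi.add_apply, Pi.smul_apply, hfs' x hx', supp_shift C r f' x hx', smul_zero,
        add_zero]
    · intro x hx'
      by_cases hfx : f' x = 0
      · rw [hf'', Pi.add_apply, hfx, zero_add, Pi.smul_apply, shift] at hx'
        split_ifs at hx' with hc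
        · obtain ⟨-, hcx, -⟩ := plus_spec C L hrM hc.2 hc.1
          have hne : f' (plus D (negF C r) x) ≠ 0 := fun e => hx' (by rw [e, smul_zero])
          refine ⟨Lev.inQ_of_inQ1 hc.2, fun b hb => ?_⟩
          rw [L.ip_comm, L.bil_cv_add b.isLt hcx, L.ip_comm r b,
            L.ip_comm (plus D (negF C r) x) b, hro b hb, (hfp' _ hne).2 b hb]
          norm_num
        · simp at hx'
      · exact hfp' x hfx
    · rw [hkeep w (Or.inl rfl), hfw']
    · rw [show C.xGL r t * h * v * (C.xGL r t * h)⁻¹ = C.xGL r t * (h * v * h⁻¹) * (C.xGL r t)⁻¹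
        by group]
      exact hx.symm.trans hx2
    · intro x hx' hx1
      by_cases hxq : x = q
      · subst hxq
        rw [hf'', Pi.add_apply, Pi.smul_apply, shift, if_pos ⟨hrq, hqQ⟩, hplus, hfw', ht,
          smul_eq_mul, div_mul_cancel₀ _ hfw, CharTwo.add_self_eq_zero]
      · rw [hkeep x (Or.inr ⟨hxq, hx1⟩)]
        exact hz x ((List.mem_cons.1 hx').resolve_left hxq) hx1

include L hV in
/-- An element with a pivot is conjugate to the pivot involution times an orthogonal element. -/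
theorem exists_split [Finite F] {Ls : List (Fin D.nroots)} (hpz : ∀ b ∈ Ls, V.pz b)
    {w : Fin D.nroots} (hw : V.inQ1 w) (how : orthQ V Ls w) {v : GL D.Idx F}
    (hv : v ∈ UP C (orthQ V Ls)) (hv2 : v * v = 1) {f : Fin D.nroots → F} (hfs : Supp V f)
    (hfp : ∀ q, f q ≠ 0 → orthQ V Ls q) (hf : Eqv C V (qprod C V f) v) (hfw : f w ≠ 0) :
    ∃ h ∈ levGroup C V, CommL C Ls h ∧ ∃ v0 ∈ UP C (orthQ V (w :: Ls)),
      v0 * v0 = 1 ∧ h * v * h⁻¹ = C.xGL w 1 * v0 := by
  classical
  obtain ⟨h₁, hh₁, hc₁, hv', f', hfs', hfp', hfw', hf', hz⟩ :=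
    exists_eliminate C L hV hw how (List.finRange D.nroots) hv f hfs hfp hfw hf
  set a := f w with ha
  set v' := h₁ * v * h₁⁻¹ with hv'def
  have hv'2 : v' * v' = 1 := by
    calc v' * v' = h₁ * (v * v) * h₁⁻¹ := by rw [hv'def]; group
      _ = 1 := by rw [hv2]; group
  have hsum : ∀ r s k, orthQ V Ls r → orthQ V Ls s → ip D (r : Fin D.nroots) (s : Fin D.nroots) = -1 →
      cv D (k : Fin D.nroots) = cv D r + cv D s → orthQ V Ls k :=
    fun r s k hr hs _ h => orthQ_sum C L hr hs h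
  set g := f' + Pi.single w a with hg
  have hgw : g w = 0 := by
    rw [hg, Pi.add_apply, Pi.single_eq_same, hfw', CharTwo.add_self_eq_zero]
  have hgne : ∀ q : Fin D.nroots, q ≠ w → g q = f' q := fun q hq => by
    rw [hg, Pi.add_apply, Pi.single_eq_of_ne hq, add_zero]
  set y := C.xGL w a * v' with hy
  have hxw : Eqv C V (qprod C V (Pi.single w a)) (C.xGL w a) := by
    rw [qprod_single C hw]; exact Eqv.refl C _
  have hgy : Eqv C V (qprod C V g) y := by
    rw [hg, add_comm]
    exact (qprod_add C L hV _ _).trans (eqv_mul C L hV (qprod_mem C f') hxw hf')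
  have hgs : ∀ q, g q ≠ 0 → V.inQ1 q ∧ orthQ V Ls q ∧
      (ip D w (q : Fin D.nroots) = 0 ∨ ip D w (q : Fin D.nroots) = -1) := by
    intro q hq
    have hne : q ≠ w := fun e => hq (e ▸ hgw)
    rw [hgne q hne] at hq
    have hq1 : V.inQ1 q := by by_contra hn; exact hq (hfs' q hn)
    obtain ⟨hlo, hhi⟩ := ip_cases C L hne
      (Lev.ne_negF C L (Lev.inQ_of_inQ1 hw) (Lev.inQ_of_inQ1 hq1))
    have : ip D w q ≠ 1 := fun e => hq (hz q (List.mem_finRange q) e)
    exact ⟨hq1, hfp' q hq, by omega⟩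
  set B : Fin D.nroots → Prop :=
    fun q => orthQ V Ls q ∧ (ip D w q = 0 ∧ V.inQ1 q ∨ V.inZ q) with hB
  have hwB : ∀ q, B q → 0 ≤ ip D w (q : Fin D.nroots) := by
    rintro q ⟨-, ⟨h, -⟩ | h⟩
    · rw [h]
    · rw [L.ip_comm, hV.top_one q w h hw]; norm_num
  have hBB : ∀ q q', B q → B q' → 0 ≤ ip D (q : Fin D.nroots) (q' : Fin D.nroots) := by
    intro q q' hq hq'
    by_cases e : q' = q
    · rw [e, ip_self C L]; norm_num
    by_contra hneg
    have hm : ip D q q' = -1 := by
      have := (ip_cases C L e (Lev.ne_negF C L hq.1.1 hq'.1.1)).1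
      omega
    obtain ⟨k, hk, -⟩ := exists_sum C L hm
    obtain ⟨hkZ, h1, h2⟩ := sum_inZ L hV hq.1.1 hq'.1.1 hk
    have h3 := hq.2.resolve_right fun h => absurd h.2 (by rw [show V.deg q = 1 from h1.2]; norm_num)
    have h4 := hq'.2.resolve_right fun h => absurd h.2 (by rw [show V.deg q' = 1 from h2.2]; norm_num)
    have h5 := hV.top_one k w hkZ hw
    rw [L.bil_cv_add w.isLt hk, L.ip_comm q w, L.ip_comm q' w, h3.1, h4.1] at h5
    norm_num at h5
  have hyA : y ∈ UP C (orthQ V Ls) := mul_mem (mem_UP C how a) hv'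
  have hyB : y ∈ UP C B := by
    by_cases hex : ∃ q, g q ≠ 0 ∧ ip D w (q : Fin D.nroots) = -1
    swap
    · push Not at hex
      refine mem_of_coords C L hV (fun q hq => hq.1) hsum (fun q hq hz => ⟨hq, Or.inr hz⟩) hyA
        (fun q hq1 hq => ?_) hgy
      obtain ⟨-, hqo, h0 | h0⟩ := hgs q hq
      · exact ⟨hqo, hqo, Or.inl ⟨h0, hq1⟩⟩
      · exact absurd h0 (hex q hq)
    obtain ⟨wb, hbne, hbw⟩ := hex
    exfalso
    obtain ⟨hb1, hbo, -⟩ := hgs wb hbne
    obtain ⟨z, hz', hcz⟩ := exists_sum C L hbw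
    have hzZ : V.inZ z := (sum_inZ L hV (Lev.inQ_of_inQ1 hw) (Lev.inQ_of_inQ1 hb1) hz').1
    set b := g wb with hb
    have hwbB : ∀ q, B q → 0 ≤ ip D wb (q : Fin D.nroots) := by
      intro q hq
      have h1 : ip D z q = ip D w q + ip D wb q := L.bil_cv_add q.isLt hz'
      rcases hq.2 with ⟨h0, hq1⟩ | hqZ
      · rw [hV.top_one z q hzZ hq1, h0] at h1
        omega
      · rw [L.ip_comm, hV.top_one q wb hqZ hb1]; norm_num
    set y1 := C.xGL wb b * y with hy1
    have hy1B : y1 ∈ UP C B := by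
      refine mem_of_coords C L hV (fun q hq => hq.1) hsum (fun q hq hz => ⟨hq, Or.inr hz⟩)
        (mul_mem (mem_UP C hbo b) hyA) (f := Pi.single wb b + g) (fun q hq1 hq => ?_)
        ((qprod_add C L hV _ _).trans (eqv_mul C L hV (qprod_mem C g)
          (by rw [qprod_single C hb1]; exact Eqv.refl C _) hgy))
      have hne : q ≠ wb := fun e => hq (by
        rw [e, Pi.add_apply, Pi.single_eq_same, ← hb, CharTwo.add_self_eq_zero])
      rw [Pi.add_apply, Pi.single_eq_of_ne hne, zero_add] at hq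
      obtain ⟨-, hqo, h0 | h0⟩ := hgs q hq
      · exact ⟨hqo, hqo, Or.inl ⟨h0, hq1⟩⟩
      · obtain ⟨z2, hz2, -⟩ := exists_sum C L h0
        have hzz := hV.top_unique z2 z
          (sum_inZ L hV (Lev.inQ_of_inQ1 hw) (Lev.inQ_of_inQ1 hq1) hz2).1 hzZ
        rw [hzz, hz'] at hz2
        exact absurd (Fin.ext (L.cv_inj q.isLt wb.isLt (add_left_cancel hz2).symm)) hne
    have hc1 : Commute (C.xGL w a) y1 := commute_UP C L hwB a hy1B
    have hc2 : Commute (C.xGL wb b) y1 := commute_UP C L hwbB b hy1B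
    have hy12 : y1 * y1 = 1 := sq_of_abelian C L hBB hy1B
    have hv'e : v' = C.xGL w a * C.xGL wb b * y1 := by
      rw [hy1, hy, ← mul_assoc, ← mul_assoc, mul_assoc (C.xGL w a), xGL_mul_self C, mul_one,
        xGL_mul_self C, one_mul]
    have hxx : C.xGL w a * C.xGL wb b * (C.xGL w a * C.xGL wb b) = 1 := by
      have h1 : Commute (C.xGL w a * C.xGL wb b) y1 := hc1.mul_left hc2
      have h2 := hv'2
      rw [hv'e, mul_assoc, ← mul_assoc y1, ← h1.eq, mul_assoc _ y1 y1, hy12, mul_one] at h2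
      exact h2
    have hz1 : C.xGL z (a * b) = 1 := by
      have h1 := hcz a b
      calc C.xGL z (a * b)
          = C.xGL wb b * (C.xGL w a * (C.xGL w a * C.xGL wb b * C.xGL z (a * b))) := by
            simp only [← mul_assoc]
            rw [mul_assoc (C.xGL wb b), xGL_mul_self C, mul_one, xGL_mul_self C, one_mul]
        _ = C.xGL wb b * (C.xGL w a * (C.xGL wb b * C.xGL w a)) := by rw [h1]
        _ = (C.xGL w a * C.xGL wb b * (C.xGL w a * C.xGL wb b))⁻¹ * 1 := by
            rw [hxx, inv_one, one_mul]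
            calc _ = C.xGL w a * (C.xGL w a * C.xGL wb b * (C.xGL w a * C.xGL wb b)) * C.xGL w a := by
                  simp only [← mul_assoc, xGL_mul_self C, one_mul]
              _ = 1 := by rw [hxx, mul_one, xGL_mul_self C]
        _ = 1 := by rw [hxx, inv_one, one_mul]
    rcases mul_eq_zero.1 (eq_zero_of_xGL C L (Lev.pos_of_inQ C L (Lev.inQ_of_inZ hzZ)) hz1) with
      h0 | h0
    · exact hfw h0
    · exact hbne h0
  -- removal of the degree two part
  obtain ⟨e, hes, hep, hee⟩ := exists_coords C L hV (p := B) (fun q hq => hq.1.1) hyB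
  set y0 := qprod C V e with hy0
  have hy0A : y0 ∈ UP C (orthQ V (w :: Ls)) := qprod_mem_of_supp C e fun q hq1 hq => by
    obtain ⟨hqo, ⟨h0, -⟩ | hqZ⟩ := hep q hq
    · refine ⟨hqo.1, fun b hb => ?_⟩
      rcases List.mem_cons.1 hb with rfl | hb
      · exact h0
      · exact hqo.2 b hb
    · have h5 : 2 ≤ V.deg q := hqZ.2
      rw [show V.deg q = 1 from hq1.2] at h5
      norm_num at h5
  have hy0B : y0 ∈ UP C B := qprod_mem_of_supp C e fun q _ hq => hep q hq
  have hrest : (y0⁻¹ * y) ∈ UP C fun q => V.inZ q ∧ orthQ V Ls q := by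
    refine mem_of_coords C L hV (p := B) (p' := fun q => V.inZ q ∧ orthQ V Ls q)
      (fun q hq => hq.1.1)
      (fun r s k hr hs h _ => absurd (hBB r s hr hs) (by rw [h]; norm_num))
      (fun q hq hz => ⟨hz, hq.1⟩) (mul_mem (inv_mem hy0B) hyB) (f := 0)
      (fun q _ hq => absurd rfl hq) ?_
    rw [qprod_zero]
    show _ ∈ UP C V.inZ
    rw [inv_one, one_mul]
    exact hee
  have hy0self : y0 * y0 = 1 := sq_of_abelian C L hBB hy0B
  have hex2 : ∃ h₂ ∈ levGroup C V, CommL C Ls h₂ ∧ h₂ * v' * h₂⁻¹ = C.xGL w a * y0 := by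
    have hv'y : v' = C.xGL w a * y0 * (y0⁻¹ * y) := by
      rw [hy]
      simp only [mul_assoc, mul_inv_cancel_left]
      rw [← mul_assoc, xGL_mul_self C, one_mul]
    by_cases hzex : ∃ z, V.inZ z ∧ orthQ V Ls z
    swap
    · push Not at hzex
      refine ⟨1, one_mem _, CommL.one C, ?_⟩
      rw [eq_one_of_empty C (fun q hq => hzex q hq.1 hq.2) hrest, mul_one] at hv'y
      rw [one_mul, inv_one, mul_one, hv'y]
    obtain ⟨z, hzZ, hzo⟩ := hzex
    obtain ⟨c, hc⟩ := exists_of_single C (z := z) (fun q hq => hV.top_unique q z hq.1 hzZ) hrest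
    rw [hc] at hv'y
    obtain ⟨wb, hwb, -⟩ := exists_sum C L (r := negF C w) (s := z)
      (by rw [ip_negF C L, L.ip_comm, hV.top_one z w hzZ hw])
    have hn : cv D (negF C w : Fin D.nroots) = -cv D w := L.cv_neg w w.isLt
    have hwx : ∀ x : Fin D.nroots, ip D wb x = ip D z x - ip D w x := fun x => by
      rw [L.bil_cv_add x.isLt hwb, ip_negF C L]; ring
    have hbw : ip D wb w = -1 := by rw [hwx, hV.top_one z w hzZ hw, ip_self C L]; norm_num
    obtain ⟨k, hk, hck⟩ := exists_sum C L hbw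
    have hkz : k = z := Fin.ext (L.cv_inj k.isLt z.isLt (by rw [hk, hwb, hn]; abel))
    subst hkz
    have hwbo : ∀ b ∈ Ls, ip D (b : Fin D.nroots) wb = 0 := fun b hb => by
      rw [L.ip_comm, hwx, L.ip_comm k b, L.ip_comm w b, hzo.2 b hb, how.2 b hb]; norm_num
    have hwbB : ∀ q, B q → 0 ≤ ip D wb (q : Fin D.nroots) := by
      intro q hq
      rcases hq.2 with ⟨h0, hq1⟩ | hqZ
      · rw [hwx, hV.top_one k q hzZ hq1, h0]; norm_num
      · rw [hV.top_unique q k hqZ hzZ, hwx, ip_self C L, L.ip_comm w k, hV.top_one k w hzZ hw]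
        norm_num
    have hwbp : V.pz wb := fun i hi => by
      rw [hwb, Pi.add_apply, hn, Pi.neg_apply, hw.1 i hi, hzZ.1 i hi]; norm_num
    refine ⟨C.xGL wb (c / a), xGL_mem_levGroup C hwbp _, commL_xGL C L hwbo _, ?_⟩
    have hcw : C.xGL wb (c / a) * C.xGL w a * (C.xGL wb (c / a))⁻¹ = C.xGL w a * C.xGL k c := by
      rw [C.xGL_inv, CharTwo.neg_eq, mul_assoc, hck (c / a) a, ← mul_assoc, ← mul_assoc,
        xGL_mul_self C, one_mul, div_mul_cancel₀ c hfw]
    have hyz : Commute (C.xGL wb (c / a)) (y0 * C.xGL k c) :=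
      commute_UP C L hwbB _ (mul_mem hy0B (mem_UP C ⟨hzo, Or.inr hzZ⟩ c))
    have hkc : Commute (C.xGL k c) y0 := commute_UP C L
      (fun q hq => hBB k q ⟨hzo, Or.inr hzZ⟩ hq) c hy0B
    calc C.xGL wb (c / a) * v' * (C.xGL wb (c / a))⁻¹
        = (C.xGL wb (c / a) * C.xGL w a * (C.xGL wb (c / a))⁻¹) *
            (C.xGL wb (c / a) * (y0 * C.xGL k c) * (C.xGL wb (c / a))⁻¹) := by
          rw [hv'y]; group
      _ = C.xGL w a * C.xGL k c * (y0 * C.xGL k c) := by
          rw [hcw, hyz.eq, mul_inv_cancel_right]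
      _ = C.xGL w a * y0 := by
          rw [mul_assoc, ← mul_assoc (C.xGL k c), hkc.eq, mul_assoc, xGL_mul_self C, mul_one]
  obtain ⟨h₂, hh₂, hc₂, he₂⟩ := hex2
  obtain ⟨h₃, hh₃, he₃, hc₃⟩ := exists_scale C L w (a := a) hfw
  have hc₃L : CommL C Ls h₃ := fun b hb t => hc₃ b (by rw [L.ip_comm]; exact how.2 b hb) t
  have hc₃y : Commute h₃ y0 := by
    have hle : UP C (orthQ V (w :: Ls)) ≤ Subgroup.centralizer ({h₃} : Set (GL D.Idx F)) :=
      UP_le C fun q hq t => Subgroup.mem_centralizer_iff.2 fun x hx => by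
        rw [Set.mem_singleton_iff] at hx
        subst hx
        exact (hc₃ q (hq.2 w (List.mem_cons_self ..)) t).eq
    exact Subgroup.mem_centralizer_iff.1 (hle hy0A) _ rfl
  refine ⟨h₃ * h₂ * h₁, mul_mem (mul_mem (hh₃ V) hh₂) hh₁, (hc₃L.mul hc₂).mul hc₁, y0, hy0A,
    hy0self, ?_⟩
  calc h₃ * h₂ * h₁ * v * (h₃ * h₂ * h₁)⁻¹ = h₃ * (h₂ * v' * h₂⁻¹) * h₃⁻¹ := by
        rw [hv'def]; group
    _ = (h₃ * C.xGL w a * h₃⁻¹) * (h₃ * y0 * h₃⁻¹) := by rw [he₂]; group
    _ = C.xGL w 1 * y0 := by rw [he₃, hc₃y.eq, mul_inv_cancel_right]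

include L hV in
/-- Involutions of an orthogonal layer are conjugate to orthogonal products of root involutions. -/
theorem exists_pivot [Finite F] : ∀ (Ls : List (Fin D.nroots)), (∀ b ∈ Ls, V.pz b) →
    ∀ {v : GL D.Idx F}, v ∈ UP C (orthQ V Ls) → v * v = 1 →
      ∃ h ∈ levGroup C V, CommL C Ls h ∧ ∃ L' : List (Fin D.nroots), (∀ r ∈ L', orthQ V Ls r) ∧
        L'.Pairwise (fun a b : Fin D.nroots => ip D a b = 0) ∧
        h * v * h⁻¹ = wprod C (L'.map Fin.val) := by
  classical
  intro Ls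
  induction hn : (Finset.univ.filter fun q => orthQ V Ls q).card using Nat.strong_induction_on
    generalizing Ls with
  | _ n ih =>
  intro hpz v hv hv2
  obtain ⟨f, hfs, hfp, hf⟩ := exists_coords C L hV (p := orthQ V Ls) (fun q hq => hq.1) hv
  by_cases hex : ∃ w, f w ≠ 0
  · obtain ⟨w, hfw⟩ := hex
    have hw : V.inQ1 w := by by_contra h; exact hfw (hfs w h)
    have how := hfp w hfw
    obtain ⟨h, hh, hc, v0, hv0, hv02, he⟩ := exists_split C L hV hpz hw how hv hv2 hfs hfp hf hfw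
    have hlt : (Finset.univ.filter fun q => orthQ V (w :: Ls) q).card < n := by
      rw [← hn]
      refine Finset.card_lt_card ⟨fun q hq => ?_, fun hsub => ?_⟩
      · simp only [Finset.mem_filter, Finset.mem_univ, true_and] at hq ⊢
        exact ⟨hq.1, fun b hb => hq.2 b (List.mem_cons_of_mem _ hb)⟩
      · have := (Finset.mem_filter.1 (hsub (Finset.mem_filter.2 ⟨Finset.mem_univ w, how⟩))).2.2 w
          (List.mem_cons_self ..)
        rw [ip_self C L] at this
        norm_num at this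
    obtain ⟨h', hh', hc', L', hL', hLp, he'⟩ := ih _ hlt (w :: Ls) rfl (fun b hb => by
      rcases List.mem_cons.1 hb with rfl | hb
      · exact hw.1
      · exact hpz b hb) hv0 hv02
    refine ⟨h' * h, mul_mem hh' hh,
      CommL.mul (fun b hb => hc' b (List.mem_cons_of_mem _ hb)) hc, w :: L', fun r hr => ?_,
      List.pairwise_cons.2 ⟨fun r hr => (hL' r hr).2 w (List.mem_cons_self ..), hLp⟩, ?_⟩
    · rcases List.mem_cons.1 hr with rfl | hr
      · exact how
      · exact ⟨(hL' r hr).1, fun b hb => (hL' r hr).2 b (List.mem_cons_of_mem _ hb)⟩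
    · rw [List.map_cons, wprod_cons, ← he']
      calc h' * h * v * (h' * h)⁻¹ = h' * (h * v * h⁻¹) * h'⁻¹ := by group
        _ = h' * C.xGL w 1 * h'⁻¹ * (h' * v0 * h'⁻¹) := by rw [he]; group
        _ = _ := by rw [(hc' w (List.mem_cons_self ..) 1).eq, mul_inv_cancel_right]
  push Not at hex
  have hvZ : v ∈ UP C fun q => V.inZ q ∧ orthQ V Ls q :=
    mem_of_coords C L hV (p := orthQ V Ls) (fun q hq => hq.1)
      (fun r s k hr hs _ h => orthQ_sum C L hr hs h) (fun q hq hz => ⟨hz, hq⟩) hv (f := f)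
      (fun q _ hq => absurd (hex q) hq) hf
  by_cases hzex : ∃ z, V.inZ z ∧ orthQ V Ls z
  swap
  · push Not at hzex
    exact ⟨1, one_mem _, CommL.one C, [], by simp, List.Pairwise.nil,
      by simp [eq_one_of_empty C (fun q hq => hzex q hq.1 hq.2) hvZ, wprod_nil]⟩
  obtain ⟨z, hzZ, hzo⟩ := hzex
  obtain ⟨c, hc⟩ := exists_of_single C (z := z) (fun q hq => hV.top_unique q z hq.1 hzZ) hvZ
  by_cases hc0 : c = 0
  · exact ⟨1, one_mem _, CommL.one C, [], by simp, List.Pairwise.nil,
      by simp [hc, hc0, C.xGL_zero, wprod_nil]⟩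
  obtain ⟨h, hh, he, hcm⟩ := exists_scale C L z hc0
  refine ⟨h, hh V, fun b hb t => hcm b (by rw [L.ip_comm]; exact hzo.2 b hb) t, [z],
    by simpa using hzo, List.pairwise_singleton _ _, ?_⟩
  rw [hc, he, List.map_cons, List.map_nil, wprod_cons, wprod_nil, mul_one]

end CfsgLib.InvolLaced
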