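import Cfsg.Agent.Lib.ChevStr.InstanceTables
import Cfsg.Agent.Lib.ChevStr.Bruhat

/-!
Simply laced root tables in characteristic two: the bilinear form on roots and the commutation rules of
root elements, obtained from the fundamental roots by transport along the Weyl group.
-/

set_option autoImplicit false
set_option linter.unusedSectionVars false

namespace CfsgLib.InvolLaced

open Cfsg.Lie CfsgLib.ChevStr
open scoped MatrixGroups

/-- The coefficient vector of a root, read from the coroot table (the type is simply laced). -/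
def cv (D : ChevalleyDatum) (r : ℕ) (i : Fin D.rank) : ℤ := (D.coroot.getD r #[]).getD i.val 0

/-- The bilinear form on root indices. -/
def ip (D : ChevalleyDatum) (r s : ℕ) : ℤ := ∑ i : Fin D.rank, cv D r i * D.cartan i.val s

/-- The shape of the commutator formula of a fundamental root with another root. -/
def pairB (D : ChevalleyDatum) (p s : ℕ) : Bool :=
  Nat.beq s p || Nat.beq s (D.neg p) ||
    (decide (0 ≤ ip D p s) && decide (ip D p s ≤ 1) && (D.commTerms p s).isEmpty) ||
    (decide (ip D p s = -1) &&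
      match D.commTerms p s with
      | [(k, c, 1, 1)] => decide (k < D.nroots) && decide (c % 2 = 1) &&
          (List.finRange D.rank).all fun i => decide (cv D k i = cv D p i + cv D s i)
      | _ => false)

/-- The facts used about a simply laced datum. -/
structure LRoot (D : ChevalleyDatum) : Prop where
  sym : ∀ i j : Fin D.rank, D.cartan i.val (D.simple j.val) = D.cartan j.val (D.simple i.val)
  cv_simple : ∀ i : Fin D.rank, cv D (D.simple i.val) = Pi.single i 1
  cv_neg : ∀ s < D.nroots, cv D (D.neg s) = -cv D s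
  cartan_cv : ∀ (i : Fin D.rank), ∀ s < D.nroots,
    D.cartan i.val s = ∑ j : Fin D.rank, cv D s j * D.cartan i.val (D.simple j.val)
  cv_refl : ∀ (i : Fin D.rank), ∀ s < D.nroots,
    cv D (D.reflectRoot i.val s) = cv D s - D.cartan i.val s • (Pi.single i 1 : Fin D.rank → ℤ)
  key_succ : ∀ s, s + 1 < D.nroots → vecKey (cv D s) < vecKey (cv D (s + 1))
  pair : ∀ i : Fin D.rank, ∀ s < D.nroots, pairB D (D.simple i.val) s = true

variable {D : ChevalleyDatum}

/-- The bilinear form of the fundamental roots. -/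
def bil (D : ChevalleyDatum) (u v : Fin D.rank → ℤ) : ℤ :=
  ∑ i : Fin D.rank, ∑ j : Fin D.rank, u i * v j * D.cartan i.val (D.simple j.val)

theorem bil_add_left (u u' v : Fin D.rank → ℤ) : bil D (u + u') v = bil D u v + bil D u' v := by
  simp only [bil, Pi.add_apply, add_mul, Finset.sum_add_distrib]

theorem bil_smul_left (a : ℤ) (u v : Fin D.rank → ℤ) : bil D (a • u) v = a * bil D u v := by
  simp only [bil, Pi.smul_apply, smul_eq_mul, Finset.mul_sum, mul_assoc]

theorem bil_neg_left (u v : Fin D.rank → ℤ) : bil D (-u) v = -bil D u v := by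
  rw [← neg_one_smul ℤ u, bil_smul_left, neg_one_mul]

theorem bil_sub_left (u u' v : Fin D.rank → ℤ) : bil D (u - u') v = bil D u v - bil D u' v := by
  rw [sub_eq_add_neg, bil_add_left, bil_neg_left, sub_eq_add_neg]

namespace LRoot

variable (L : LRoot D)

include L

theorem bil_comm (u v : Fin D.rank → ℤ) : bil D u v = bil D v u := by
  rw [bil, Finset.sum_comm]
  exact Finset.sum_congr rfl fun i _ => Finset.sum_congr rfl fun j _ => by rw [L.sym j i]; ring

theorem bil_sub_right (u v v' : Fin D.rank → ℤ) : bil D u (v - v') = bil D u v - bil D u v' := by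
  rw [L.bil_comm, bil_sub_left, L.bil_comm v, L.bil_comm v']

theorem bil_smul_right (a : ℤ) (u v : Fin D.rank → ℤ) : bil D u (a • v) = a * bil D u v := by
  rw [L.bil_comm, bil_smul_left, L.bil_comm v]

theorem ip_eq {r s : ℕ} (hs : s < D.nroots) : ip D r s = bil D (cv D r) (cv D s) := by
  refine Finset.sum_congr rfl fun i _ => ?_
  rw [L.cartan_cv i s hs, Finset.mul_sum]
  exact Finset.sum_congr rfl fun j _ => by ring

theorem cartan_eq_bil (i : Fin D.rank) {s : ℕ} (hs : s < D.nroots) :
    D.cartan i.val s = bil D (Pi.single i 1) (cv D s) := by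
  rw [← L.cv_simple i, ← L.ip_eq hs, ip, Fintype.sum_eq_single i, L.cv_simple, Pi.single_eq_same,
    one_mul]
  intro j hj
  rw [L.cv_simple, Pi.single_eq_of_ne hj, zero_mul]

theorem ip_comm (r s : Fin D.nroots) : ip D r s = ip D s r := by
  rw [L.ip_eq s.isLt, L.ip_eq r.isLt, L.bil_comm]

theorem bil_cv_add {k r s x : ℕ} (hx : x < D.nroots) (h : cv D k = cv D r + cv D s) :
    ip D k x = ip D r x + ip D s x := by
  rw [L.ip_eq hx, L.ip_eq hx, L.ip_eq hx, h, bil_add_left]

theorem cv_inj {r s : ℕ} (hr : r < D.nroots) (hs : s < D.nroots) (h : cv D r = cv D s) : r = s := by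
  have hmono : ∀ a b, a < b → b < D.nroots → vecKey (cv D a) < vecKey (cv D b) := by
    intro a b hab
    induction hab with
    | refl => exact fun hb => L.key_succ a hb
    | step _ ih => exact fun hb => (ih (Nat.lt_of_succ_lt hb)).trans (L.key_succ _ hb)
  rcases lt_trichotomy r s with hlt | heq | hgt
  · exact absurd (congrArg vecKey h) (hmono r s hlt hs).ne
  · exact heq
  · exact absurd (congrArg vecKey h) (hmono s r hgt hr).ne'

end LRoot

section Group

variable {F : Type*} [Field F] (C : ChevCore D F) (L : LRoot D)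

include L in
theorem cv_sPerm (i : Fin D.rank) (s : Fin D.nroots) :
    cv D (C.hR.sPerm i s) = cv D s - D.cartan i.val s.val • (Pi.single i 1 : Fin D.rank → ℤ) := by
  rw [C.hR.sPerm_val]
  exact L.cv_refl i s s.isLt

include L in
theorem ip_sPerm (i : Fin D.rank) (r s : Fin D.nroots) :
    ip D (C.hR.sPerm i r) (C.hR.sPerm i s) = ip D r s := by
  have hself : bil D (Pi.single i 1) (Pi.single i 1) = 2 := by
    have := L.cartan_eq_bil i (C.R.simple_lt i)
    rwa [L.cv_simple, C.hR.cartan_self i, eq_comm] at this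
  rw [L.ip_eq (C.hR.sPerm i s).isLt, cv_sPerm C L, cv_sPerm C L, bil_sub_left, L.bil_sub_right,
    L.bil_sub_right, bil_smul_left, bil_smul_left, L.bil_smul_right, L.bil_smul_right, hself,
    L.bil_comm (cv D r) (Pi.single i 1), ← L.cartan_eq_bil i r.isLt, ← L.cartan_eq_bil i s.isLt,
    ← L.ip_eq s.isLt]
  ring

/-- The negative of a root. -/
def negF (r : Fin D.nroots) : Fin D.nroots := ⟨D.neg r, C.R.neg_lt r r.isLt⟩

/-- The commutation rule of `r` and `s` in characteristic two. -/
def PairRule (r s : Fin D.nroots) : Prop :=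
  (0 ≤ ip D r s ∧ ip D r s ≤ 1 ∧
      ∀ t u : F, C.xGL r t * C.xGL s u = C.xGL s u * C.xGL r t) ∨
    (ip D r s = -1 ∧ ∃ k : Fin D.nroots, cv D k = cv D r + cv D s ∧
      ∀ t u : F, C.xGL s u * C.xGL r t = C.xGL r t * C.xGL s u * C.xGL k (t * u))

/-- Every root different from `±r` obeys the commutation rule with `r`. -/
def Rules (r : Fin D.nroots) : Prop := ∀ s, s ≠ r → s ≠ negF C r → PairRule C r s

variable [CharP F 2]

include L in
theorem rules_simple (i : Fin D.rank) : Rules C ⟨D.simple i.val, C.R.simple_lt i⟩ := by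
  intro s h1 h2
  have h1' : s.val ≠ D.simple i.val := fun e => h1 (Fin.ext e)
  have h2' : s.val ≠ D.neg (D.simple i.val) := fun e => h2 (Fin.ext e)
  have h := L.pair i s s.isLt
  simp only [pairB, Bool.or_eq_true, Bool.and_eq_true, Nat.beq_eq, decide_eq_true_eq,
    List.isEmpty_iff, h1', h2', false_or] at h
  rcases h with ⟨⟨ha, hb⟩, hc⟩ | ⟨ha, hm⟩
  · refine Or.inl ⟨ha, hb, fun t u => ?_⟩
    have := C.xGL_comm (C.R.simple_lt i) s.isLt h1' h2' t u
    simp only [ChevalleyDatum.commWord, hc, List.map_nil, ChevCore.wordGL, List.prod_nil,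
      mul_one] at this
    exact this.symm
  · split at hm
    · next k c heq =>
      simp only [Bool.and_eq_true, decide_eq_true_eq, List.all_eq_true, List.mem_finRange,
        true_implies] at hm
      obtain ⟨⟨hk, hc⟩, hcv⟩ := hm
      refine Or.inr ⟨ha, ⟨k, hk⟩, funext hcv, fun t u => ?_⟩
      have hc2 : (c : F) = 1 := by
        have h3 : ((c - 1 : ℤ) : F) = 0 := (CharP.intCast_eq_zero_iff F 2 _).2 (by omega)
        rwa [Int.cast_sub, Int.cast_one, sub_eq_zero] at h3
      rw [C.xGL_comm (C.R.simple_lt i) s.isLt h1' h2' t u]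
      simp [ChevalleyDatum.commWord, heq, ChevCore.wordGL, hc2, CharTwo.neg_eq]
    · exact absurd hm (by simp)

theorem sign_one {e : ℤ} (h : e = 1 ∨ e = -1) (t : F) : (e : F) * t = t := by
  rcases h with rfl | rfl <;> simp [CharTwo.neg_eq]

/-- In characteristic two a representative of a fundamental reflection permutes the root elements. -/
theorem nS_conj (i : Fin D.rank) (s : Fin D.nroots) (t : F) :
    C.nS i * C.xGL s t * (C.nS i)⁻¹ = C.xGL (C.hR.sPerm i s) t := by
  obtain ⟨-, e, he⟩ := C.acts_nS i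
  rw [(he s).2.2 t, sign_one (he s).1]

include L in
theorem rules_sPerm (i : Fin D.rank) {r : Fin D.nroots} (h : Rules C r) :
    Rules C (C.hR.sPerm i r) := by
  intro s h1 h2
  obtain ⟨s', rfl⟩ := (C.hR.sPerm i).surjective s
  have h1' : s' ≠ r := fun e => h1 (by rw [e])
  have h2' : s' ≠ negF C r := fun e => h2 (by
    rw [e]
    exact Fin.ext (C.hR.apply_neg (C.hR.sPerm_mem i) r))
  have hconj : ∀ (a : Fin D.nroots) (t : F),
      C.xGL (C.hR.sPerm i a) t = MulAut.conj (C.nS i) (C.xGL a t) := fun a t => by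
    rw [MulAut.conj_apply, nS_conj]
  unfold PairRule
  rw [ip_sPerm C L]
  rcases h s' h1' h2' with ⟨ha, hb, hc⟩ | ⟨ha, k, hk, hc⟩
  · refine Or.inl ⟨ha, hb, fun t u => ?_⟩
    simp only [hconj, ← map_mul, hc]
  · refine Or.inr ⟨ha, C.hR.sPerm i k, ?_, fun t u => ?_⟩
    · rw [cv_sPerm C L, cv_sPerm C L, cv_sPerm C L, hk, L.cartan_eq_bil i k.isLt, hk,
        L.bil_comm, bil_add_left, L.bil_comm (cv D r), L.bil_comm (cv D s'),
        ← L.cartan_eq_bil i r.isLt, ← L.cartan_eq_bil i s'.isLt, add_smul]
      abel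
    · simp only [hconj, ← map_mul, hc]

include L in
/-- The commutation rules hold for all pairs of roots. -/
theorem rules (r : Fin D.nroots) : Rules C r := by
  obtain ⟨w, hw, k, rfl⟩ := C.exists_simple_image r
  have : ∀ w ∈ C.hR.weyl, ∀ r, Rules C r → Rules C (w r) := by
    refine C.hR.weyl_induction (P := fun w => ∀ r, Rules C r → Rules C (w r)) (fun r h => h) ?_
    rintro v - i ih r h
    rw [Equiv.Perm.mul_apply]
    exact ih _ (rules_sPerm C L i h)
  exact this w hw _ (rules_simple C L k)

include C L in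
theorem ip_self (r : Fin D.nroots) : ip D r r = 2 := by
  obtain ⟨w, hw, k, rfl⟩ := C.exists_simple_image r
  have : ∀ w ∈ C.hR.weyl, ∀ r : Fin D.nroots, ip D r r = 2 → ip D (w r) (w r) = 2 := by
    refine C.hR.weyl_induction
      (P := fun w => ∀ r : Fin D.nroots, ip D r r = 2 → ip D (w r) (w r) = 2) (fun r h => h) ?_
    rintro v - i ih r h
    rw [Equiv.Perm.mul_apply]
    exact ih _ ((ip_sPerm C L i r r).trans h)
  refine this w hw _ ?_
  rw [L.ip_eq (C.R.simple_lt k), L.cv_simple, ← L.cv_simple k, ← L.ip_eq (C.R.simple_lt k)]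
  rw [ip, Fintype.sum_eq_single k, L.cv_simple, Pi.single_eq_same, one_mul]
  · exact C.hR.cartan_self k
  · intro j hj
    rw [L.cv_simple, Pi.single_eq_of_ne hj, zero_mul]

omit [CharP F 2] in
include L in
theorem ip_negF (r s : Fin D.nroots) : ip D (negF C r) s = -ip D r s := by
  rw [L.ip_eq s.isLt, L.ip_eq s.isLt]
  show bil D (cv D (D.neg r)) _ = _
  rw [L.cv_neg r r.isLt, bil_neg_left]

include L in
/-- Root elements of roots with non-negative form commute. -/
theorem commute_of_ip {r s : Fin D.nroots} (h : 0 ≤ ip D r s) (t u : F) :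
    Commute (C.xGL r t) (C.xGL s u) := by
  by_cases h1 : s = r
  · subst h1
    show C.xGL s t * C.xGL s u = C.xGL s u * C.xGL s t
    rw [← C.xGL_add, ← C.xGL_add, add_comm]
  · have h2 : s ≠ negF C r := fun e => by
      rw [e, L.ip_comm r (negF C r), ip_negF C L, ip_self C L] at h
      omega
    rcases rules C L r s h1 h2 with ⟨-, -, hc⟩ | ⟨ha, -⟩
    · exact hc t u
    · omega

include L in
/-- The commutator of root elements of roots with form `-1`. -/
theorem exists_sum {r s : Fin D.nroots} (h : ip D r s = -1) :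
    ∃ k : Fin D.nroots, cv D k = cv D r + cv D s ∧
      ∀ t u : F, C.xGL s u * C.xGL r t = C.xGL r t * C.xGL s u * C.xGL k (t * u) := by
  have h1 : s ≠ r := fun e => by
    have := ip_self C L r
    rw [e] at h
    omega
  have h2 : s ≠ negF C r := fun e => by
    rw [e, L.ip_comm r (negF C r), ip_negF C L, ip_self C L] at h
    omega
  rcases rules C L r s h1 h2 with ⟨ha, -, -⟩ | ⟨-, h3⟩
  · omega
  · exact h3

theorem xGL_mul_self (r : ℕ) (t : F) : C.xGL r t * C.xGL r t = 1 := by
  rw [← C.xGL_add, CharTwo.add_self_eq_zero, C.xGL_zero]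

end Group

end CfsgLib.InvolLaced
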