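import Cfsg.Agent.Lib.InvolLaced.Layer

/-!
The action of the Levi part on the degree one layer: shift operators, and the removal of the
coordinates which are not orthogonal to the roots of a Levi involution.
-/

set_option autoImplicit false
set_option linter.unusedSectionVars false

namespace CfsgLib.InvolLaced

open Cfsg.Lie CfsgLib.ChevStr
open scoped MatrixGroups

variable {D : ChevalleyDatum} {F : Type*} [Field F] (C : ChevCore D F) (L : LRoot D)
  [CharP F 2] {V : Lev D} (hV : V.Good)

include L in
/-- Conjugation by a root element maps a generated subgroup into itself. -/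
theorem conj_mem_UP {p : Fin D.nroots → Prop} {r : Fin D.nroots}
    (hp : ∀ q k, p q → q ≠ negF C r ∧
      (ip D r (q : Fin D.nroots) = -1 → cv D (k : Fin D.nroots) = cv D r + cv D q → p k))
    (t : F) {g : GL D.Idx F} (hg : g ∈ UP C p) : C.xGL r t * g * (C.xGL r t)⁻¹ ∈ UP C p := by
  have hle : UP C p ≤ (UP C p).comap (MulAut.conj (C.xGL r t)).toMonoidHom := by
    refine UP_le C fun q hq u => ?_
    show C.xGL r t * C.xGL q u * (C.xGL r t)⁻¹ ∈ UP C p
    by_cases h : 0 ≤ ip D r q
    · rw [(commute_of_ip C L h t u).eq, mul_inv_cancel_right]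
      exact mem_UP C hq u
    · have hne : q ≠ r := fun e => h (by rw [e, ip_self C L]; norm_num)
      have hm : ip D r q = -1 := by
        have := (ip_cases C L hne (hp q q hq).1).1
        omega
      obtain ⟨k, hk, hc⟩ := exists_sum C L hm
      rw [C.xGL_inv, CharTwo.neg_eq, mul_assoc, hc t u, ← mul_assoc, ← mul_assoc,
        xGL_mul_self C, one_mul]
      exact mul_mem (mem_UP C hq u) (mem_UP C ((hp q k hq).2 hm hk) _)
  exact hle hg

include L in
theorem inQ_ne_negF_of_inM {r q : Fin D.nroots} (hr : V.inM r) (hq : V.inQ q) : q ≠ negF C r := by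
  rintro rfl
  have h := hq.2
  rw [Lev.deg, show ((negF C r : Fin D.nroots) : ℕ) = D.neg r from rfl, L.cv_neg r r.isLt,
    Pi.neg_apply] at h
  have := hr.2
  rw [Lev.deg] at this
  omega

include L in
theorem conj_M_mem_Q {r : Fin D.nroots} (hr : V.inM r) (t : F) {g : GL D.Idx F}
    (hg : g ∈ UP C V.inQ) : C.xGL r t * g * (C.xGL r t)⁻¹ ∈ UP C V.inQ := by
  refine conj_mem_UP C L (fun q k hq => ⟨inQ_ne_negF_of_inM C L hr hq, fun _ hk => ?_⟩) t hg
  obtain ⟨h1, h2⟩ := Lev.pz_sum hk hr.1 hq.1
  exact ⟨h1, by rw [h2, hr.2, zero_add]; exact hq.2⟩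

include L hV in
theorem conj_M_mem_Z {r : Fin D.nroots} (hr : V.inM r) (t : F) {g : GL D.Idx F}
    (hg : g ∈ UP C V.inZ) : C.xGL r t * g * (C.xGL r t)⁻¹ ∈ UP C V.inZ := by
  refine conj_mem_UP C L
    (fun q k hq => ⟨inQ_ne_negF_of_inM C L hr (Lev.inQ_of_inZ hq), fun h _ => ?_⟩) t hg
  rw [L.ip_comm, hV.top_zero q r hq hr] at h
  exact absurd h (by norm_num)

/-- A root with coefficient vector the sum of those of two roots, if there is one. -/
noncomputable def plus (D : ChevalleyDatum) (r k : Fin D.nroots) : Fin D.nroots := by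
  classical
  exact if h : ∃ m : Fin D.nroots, cv D m = cv D r + cv D k then h.choose else k

/-- The shift by a root of the Levi part. -/
noncomputable def shift (V : Lev D) (r : Fin D.nroots) (f : Fin D.nroots → F) :
    Fin D.nroots → F :=
  fun k => if ip D r k = 1 ∧ V.inQ1 k then f (plus D (negF C r) k) else 0

/-- Functions supported on degree one. -/
def Supp (V : Lev D) (f : Fin D.nroots → F) : Prop := ∀ k, ¬ V.inQ1 k → f k = 0

theorem shift_add (r : Fin D.nroots) (f g : Fin D.nroots → F) :
    shift C V r (f + g) = shift C V r f + shift C V r g := by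
  funext k
  simp only [shift, Pi.add_apply]
  split <;> simp

theorem supp_shift (r : Fin D.nroots) (f : Fin D.nroots → F) : Supp V (shift C V r f) :=
  fun k hk => if_neg fun h => hk h.2

include L in
theorem plus_spec {r k : Fin D.nroots} (hr : V.inM r) (hk : V.inQ1 k) (h : ip D r k = 1) :
    V.inQ1 (plus D (negF C r) k) ∧ cv D k = cv D r + cv D (plus D (negF C r) k) ∧
      (∀ s : Fin D.nroots, ip D s (plus D (negF C r) k) = ip D s k - ip D s r) := by
  classical
  have h' : ip D (negF C r) k = -1 := by rw [ip_negF C L, h]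
  obtain ⟨m, hm, -⟩ := exists_sum C L h'
  have hspec : cv D (plus D (negF C r) k) = cv D (negF C r) + cv D k := by
    have hex : ∃ m : Fin D.nroots, cv D m = cv D (negF C r) + cv D k := ⟨m, hm⟩
    rw [plus, dif_pos hex]
    exact hex.choose_spec
  set j := plus D (negF C r) k
  have hn : cv D (negF C r : Fin D.nroots) = -cv D r := L.cv_neg r r.isLt
  rw [hn] at hspec
  have hk' : cv D k = cv D r + cv D j := by rw [hspec]; abel
  refine ⟨⟨fun i hi => ?_, ?_⟩, hk', fun s => ?_⟩
  · have h1 := hk.1 i hi
    rw [hk', Pi.add_apply, hr.1 i hi, zero_add] at h1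
    exact h1
  · have h1 : cv D k V.a = 1 := hk.2
    have h2 : cv D r V.a = 0 := hr.2
    show cv D j V.a = 1
    rw [hk', Pi.add_apply, h2, zero_add] at h1
    exact h1
  · rw [L.ip_eq j.isLt, L.ip_eq k.isLt, L.ip_eq r.isLt, hk', L.bil_comm _ (cv D r + cv D j),
      bil_add_left, L.bil_comm (cv D r), L.bil_comm (cv D j)]
    ring

theorem eqv_conj {g h x : GL D.Idx F} (hx : ∀ z ∈ UP C V.inZ, x * z * x⁻¹ ∈ UP C V.inZ)
    (H : Eqv C V g h) : Eqv C V (x * g * x⁻¹) (x * h * x⁻¹) := by
  show (x * g * x⁻¹)⁻¹ * (x * h * x⁻¹) ∈ _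
  rw [show (x * g * x⁻¹)⁻¹ * (x * h * x⁻¹) = x * (g⁻¹ * h) * x⁻¹ by group]
  exact hx _ H

include L hV in
theorem conj_single_layer {r q : Fin D.nroots} (hr : V.inM r) (hq : V.inQ1 q) (t a : F) :
    Eqv C V (C.xGL r t * C.xGL q a * (C.xGL r t)⁻¹)
      (qprod C V (Pi.single q a + t • shift C V r (Pi.single q a))) := by
  by_cases h : 0 ≤ ip D r q
  · have hz : t • shift C V r (Pi.single q a : Fin D.nroots → F) = 0 := by
      funext k
      rw [Pi.smul_apply, shift, Pi.zero_apply]
      split_ifs with hc
      · obtain ⟨-, -, hj⟩ := plus_spec C L hr hc.2 hc.1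
        have hne : plus D (negF C r) k ≠ q := fun e => by
          have := hj r
          rw [e, ip_self C L, hc.1] at this
          omega
        rw [Pi.single_eq_of_ne hne, smul_zero]
      · rw [smul_zero]
    rw [hz, add_zero, qprod_single C hq, (commute_of_ip C L h t a).eq, mul_inv_cancel_right]
    exact Eqv.refl C _
  · have hne : q ≠ r := fun e => h (by rw [e, ip_self C L]; norm_num)
    have hm : ip D r q = -1 := by
      have := (ip_cases C L hne (inQ_ne_negF_of_inM C L hr (Lev.inQ_of_inQ1 hq))).1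
      omega
    obtain ⟨k, hk, hc⟩ := exists_sum C L hm
    have hk1 : V.inQ1 k := by
      obtain ⟨h1, h2⟩ := Lev.pz_sum hk hr.1 hq.1
      exact ⟨h1, by rw [h2, hr.2, hq.2, zero_add]⟩
    have hz : t • shift C V r (Pi.single q a : Fin D.nroots → F) = Pi.single k (t * a) := by
      funext m
      rw [Pi.smul_apply, shift]
      split_ifs with hc
      · obtain ⟨-, hj, -⟩ := plus_spec C L hr hc.2 hc.1
        by_cases e : plus D (negF C r) m = q
        · have : m = k := Fin.ext (L.cv_inj m.isLt k.isLt (by rw [hj, e, hk]))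
          subst this
          rw [e, Pi.single_eq_same, Pi.single_eq_same, smul_eq_mul]
        · have : m ≠ k := fun e' => e (Fin.ext (L.cv_inj (plus D (negF C r) m).isLt q.isLt (by
            rw [e'] at hj ⊢
            exact add_left_cancel (hj.symm.trans hk))))
          rw [Pi.single_eq_of_ne e, Pi.single_eq_of_ne this, smul_zero]
      · have : m ≠ k := fun e' => hc ⟨by
          rw [e', L.ip_comm r k, L.bil_cv_add r.isLt hk, ip_self C L, L.ip_comm q r, hm]
          norm_num, e' ▸ hk1⟩
        rw [Pi.single_eq_of_ne this, smul_zero]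
    rw [hz, C.xGL_inv, CharTwo.neg_eq, mul_assoc, hc t a, ← mul_assoc, ← mul_assoc,
      xGL_mul_self C, one_mul]
    refine Eqv.symm (Eqv.trans (qprod_add C L hV _ _) ?_)
    rw [qprod_single C hq, qprod_single C hk1]
    exact Eqv.refl C _

include L hV in
/-- Conjugation by a Levi root element acts on coordinates by `1 + t N`. -/
theorem conj_qprod {r : Fin D.nroots} (hr : V.inM r) (t : F) (f : Fin D.nroots → F)
    (hf : Supp V f) :
    Eqv C V (C.xGL r t * qprod C V f * (C.xGL r t)⁻¹)
      (qprod C V (f + t • shift C V r f)) := by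
  classical
  have key : ∀ s : Finset (Fin D.nroots), (∀ q ∈ s, V.inQ1 q) →
      Eqv C V (C.xGL r t * qprod C V (∑ q ∈ s, Pi.single q (f q)) * (C.xGL r t)⁻¹)
        (qprod C V ((∑ q ∈ s, Pi.single q (f q)) +
          t • shift C V r (∑ q ∈ s, Pi.single q (f q)))) := by
    intro s
    induction s using Finset.induction_on with
    | empty =>
      intro _
      have hz : shift C V r (0 : Fin D.nroots → F) = 0 := by funext k; simp [shift]
      simpa [hz, qprod_zero C] using Eqv.refl C (1 : GL D.Idx F)
    | insert q s hqs ih =>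
      intro hs
      have hq := hs q (Finset.mem_insert_self _ _)
      rw [Finset.sum_insert hqs, shift_add, smul_add, add_add_add_comm]
      set g : Fin D.nroots → F := ∑ x ∈ s, Pi.single x (f x)
      have h1 := eqv_conj C (x := C.xGL r t) (fun z hz => conj_M_mem_Z C L hV hr t hz)
        (qprod_add C L hV (Pi.single q (f q)) g)
      refine h1.trans ?_
      rw [show C.xGL r t * (qprod C V (Pi.single q (f q)) * qprod C V g) * (C.xGL r t)⁻¹ =
        (C.xGL r t * qprod C V (Pi.single q (f q)) * (C.xGL r t)⁻¹) *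
          (C.xGL r t * qprod C V g * (C.xGL r t)⁻¹) by group, qprod_single C hq]
      exact (eqv_mul C L hV (conj_M_mem_Q C L hr t (qprod_mem C g))
        (conj_single_layer C L hV hr hq t (f q))
        (ih fun x hx => hs x (Finset.mem_insert_of_mem hx))).trans (qprod_add C L hV _ _).symm
  have hsum : (∑ q ∈ Finset.univ.filter (fun q => V.inQ1 q), Pi.single q (f q)) = f := by
    funext k
    rw [Finset.sum_apply]
    by_cases hk : V.inQ1 k
    · rw [Finset.sum_eq_single k (fun b _ hb => Pi.single_eq_of_ne (Ne.symm hb) _)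
        (fun h => absurd (by simp [hk]) h), Pi.single_eq_same]
    · rw [Finset.sum_eq_zero, hf k hk]
      intro b hb
      rw [Pi.single_eq_of_ne]
      rintro rfl
      exact hk (Finset.mem_filter.1 hb).2
  have := key (Finset.univ.filter fun q => V.inQ1 q) fun q hq => (Finset.mem_filter.1 hq).2
  rwa [hsum] at this

/-- The action of a product of Levi root involutions. -/
noncomputable def tOp (V : Lev D) (Ls : List (Fin D.nroots)) (f : Fin D.nroots → F) :
    Fin D.nroots → F :=
  Ls.foldr (fun b g => g + shift C V b g) f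

theorem tOp_append (A B : List (Fin D.nroots)) (f : Fin D.nroots → F) :
    tOp C V (A ++ B) f = tOp C V A (tOp C V B f) := List.foldr_append

theorem tOp_cons (b : Fin D.nroots) (B : List (Fin D.nroots)) (f : Fin D.nroots → F) :
    tOp C V (b :: B) f = tOp C V B f + shift C V b (tOp C V B f) := rfl

theorem tOp_add (Ls : List (Fin D.nroots)) (f g : Fin D.nroots → F) :
    tOp C V Ls (f + g) = tOp C V Ls f + tOp C V Ls g := by
  induction Ls with
  | nil => rfl
  | cons b B ih => rw [tOp_cons, tOp_cons, tOp_cons, ih, shift_add]; abel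

theorem supp_tOp {Ls : List (Fin D.nroots)} {f : Fin D.nroots → F} (hf : Supp V f) :
    Supp V (tOp C V Ls f) := by
  induction Ls with
  | nil => exact hf
  | cons b B ih =>
    intro k hk
    rw [tOp_cons, Pi.add_apply, ih k hk, supp_shift C b _ k hk, add_zero]

include L in
theorem shift_comm {r s : Fin D.nroots} (hr : V.inM r) (hs : V.inM s) (h : ip D r s = 0)
    (f : Fin D.nroots → F) : shift C V r (shift C V s f) = shift C V s (shift C V r f) := by
  have key : ∀ {r s : Fin D.nroots}, V.inM r → V.inM s → ip D r s = 0 → ∀ k,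
      shift C V r (shift C V s f) k ≠ shift C V s (shift C V r f) k →
        ¬ (ip D r k = 1 ∧ ip D s k = 1) := by
    intro r s hr hs h k hne hboth
    apply hne
    by_cases hk : V.inQ1 k
    · obtain ⟨hj1, hjc, hji⟩ := plus_spec C L hr hk hboth.1
      obtain ⟨hi1, hic, hii⟩ := plus_spec C L hs hk hboth.2
      have h1 : ip D s (plus D (negF C r) k) = 1 := by rw [hji, L.ip_comm s r, h, hboth.2]; ring
      have h2 : ip D r (plus D (negF C s) k) = 1 := by rw [hii, h, hboth.1]; ring
      obtain ⟨-, hlc, -⟩ := plus_spec C L hs hj1 h1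
      obtain ⟨-, hmc, -⟩ := plus_spec C L hr hi1 h2
      simp only [shift, hboth, hk, hj1, hi1, h1, h2, and_self, if_true]
      congr 1
      refine Fin.ext (L.cv_inj (Fin.isLt _) (Fin.isLt _) ?_)
      have : cv D r + (cv D s + cv D (plus D (negF C s) (plus D (negF C r) k))) =
          cv D s + (cv D r + cv D (plus D (negF C r) (plus D (negF C s) k))) := by
        rw [← hlc, ← hjc, ← hmc, ← hic]
      rw [add_left_comm] at this
      exact add_left_cancel (add_left_cancel this)
    · simp only [shift, hk, and_false, if_false]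
  funext k
  by_contra hne
  have h3 := key hr hs h k hne
  simp only [shift] at hne
  by_cases h1 : ip D r k = 1 ∧ V.inQ1 k
  · obtain ⟨hj1, hjc, hji⟩ := plus_spec C L hr h1.2 h1.1
    have h2 : ¬ (ip D s (plus D (negF C r) k) = 1 ∧ V.inQ1 (plus D (negF C r) k)) := fun hh => by
      rw [hji, L.ip_comm s r, h, sub_zero] at hh
      exact h3 ⟨h1.1, hh.1⟩
    rw [if_pos h1, if_neg h2, if_neg fun hh => h3 ⟨h1.1, hh.1⟩] at hne
    exact hne rfl
  · rw [if_neg h1] at hne
    by_cases h2 : ip D s k = 1 ∧ V.inQ1 k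
    · obtain ⟨hi1, hic, hii⟩ := plus_spec C L hs h2.2 h2.1
      have h4 : ¬ (ip D r (plus D (negF C s) k) = 1 ∧ V.inQ1 (plus D (negF C s) k)) := fun hh => by
        rw [hii, h, sub_zero] at hh
        exact h1 ⟨hh.1, h2.2⟩
      rw [if_pos h2, if_neg h4] at hne
      exact hne rfl
    · rw [if_neg h2] at hne
      exact hne rfl

include L in
theorem shift_shift {r : Fin D.nroots} (hr : V.inM r) (f : Fin D.nroots → F) :
    shift C V r (shift C V r f) = 0 := by
  funext k
  simp only [shift, Pi.zero_apply]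
  split_ifs with h1 h2
  · obtain ⟨-, -, hj⟩ := plus_spec C L hr h1.2 h1.1
    have := hj r
    rw [h2.1, h1.1, ip_self C L] at this
    norm_num at this
  · rfl
  · rfl

include L in
theorem inM_negF {r : Fin D.nroots} (hr : V.inM r) : V.inM (negF C r) := by
  have hn : cv D (negF C r : Fin D.nroots) = -cv D r := L.cv_neg r r.isLt
  refine ⟨fun i hi => by rw [hn, Pi.neg_apply, hr.1 i hi, neg_zero], ?_⟩
  show cv D (negF C r : Fin D.nroots) V.a = 0
  rw [hn, Pi.neg_apply, show cv D r V.a = 0 from hr.2, neg_zero]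

include L in
/-- The two shifts along a root add up to the indicator of the weights not orthogonal to it. -/
theorem shift_sum {r : Fin D.nroots} (hr : V.inM r) {f : Fin D.nroots → F} (hf : Supp V f) :
    shift C V r (shift C V (negF C r) f) + shift C V (negF C r) (shift C V r f) =
      fun k : Fin D.nroots => if ip D r k = 0 then 0 else f k := by
  have hnn : negF C (negF C r) = r := Fin.ext (C.R.neg_neg r r.isLt)
  have hr' := inM_negF C L hr
  funext k
  simp only [Pi.add_apply, shift]
  by_cases hk : V.inQ1 k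
  · have hne : k ≠ r := fun e => by
      have h1 : cv D k V.a = 1 := hk.2
      have h2 : cv D r V.a = 0 := hr.2
      rw [e, h2] at h1
      exact zero_ne_one h1
    obtain ⟨hlo, hhi⟩ := ip_cases C L hne (inQ_ne_negF_of_inM C L hr (Lev.inQ_of_inQ1 hk))
    have hmk : ip D (negF C r) k = -ip D r k := ip_negF C L r k
    have back : ∀ {r : Fin D.nroots}, V.inM r → ip D r k = 1 →
        (ip D (negF C r) (plus D (negF C r) k) = 1 ∧ V.inQ1 (plus D (negF C r) k)) ∧
          plus D (negF C (negF C r)) (plus D (negF C r) k) = k := by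
      intro r hr h1
      obtain ⟨hj1, hjc, hji⟩ := plus_spec C L hr hk h1
      have h2 : ip D (negF C r) (plus D (negF C r) k) = 1 := by
        rw [ip_negF C L, hji, h1, ip_self C L]; norm_num
      obtain ⟨-, hic, -⟩ := plus_spec C L (inM_negF C L hr) hj1 h2
      refine ⟨⟨h2, hj1⟩, Fin.ext (L.cv_inj (Fin.isLt _) k.isLt ?_)⟩
      rw [show cv D (negF C r : Fin D.nroots) = -cv D r from L.cv_neg r r.isLt] at hic
      rw [hjc, hic]
      abel
    by_cases h1 : ip D r k = 1
    · obtain ⟨hc, he⟩ := back hr h1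
      rw [if_pos ⟨h1, hk⟩, if_pos hc, he, if_neg (fun hh => by rw [hmk, h1] at hh; norm_num at hh),
        add_zero, if_neg (by rw [h1]; norm_num)]
    · rw [if_neg fun hh => h1 hh.1, zero_add]
      by_cases h0 : ip D r k = 0
      · rw [if_neg (fun hh => by rw [hmk, h0] at hh; norm_num at hh), if_pos h0]
      · have h2 : ip D (negF C r) k = 1 := by omega
        obtain ⟨hc, he⟩ := back hr' h2
        rw [hnn] at hc he
        rw [if_pos ⟨h2, hk⟩, hnn, if_pos hc, he, if_neg h0]
  · simp [hk, hf k hk]

include L in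
theorem shift_tOp {s : Fin D.nroots} (hs : V.inM s) : ∀ {Ls : List (Fin D.nroots)},
    (∀ b ∈ Ls, V.inM b ∧ ip D b s = 0) → ∀ f : Fin D.nroots → F,
      shift C V s (tOp C V Ls f) = tOp C V Ls (shift C V s f) := by
  intro Ls
  induction Ls with
  | nil => intros; rfl
  | cons b B ih =>
    intro h f
    obtain ⟨hb, hbs⟩ := h b (List.mem_cons_self ..)
    rw [tOp_cons, tOp_cons, shift_add,
      ← ih (fun x hx => h x (List.mem_cons_of_mem _ hx)), shift_comm C L hb hs hbs]

include L in
theorem tOp_tOp : ∀ {Ls : List (Fin D.nroots)},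
    (∀ b ∈ Ls, V.inM b) → Ls.Pairwise (fun a b : Fin D.nroots => ip D a b = 0) → ∀ f : Fin D.nroots → F,
      tOp C V Ls (tOp C V Ls f) = f := by
  intro Ls
  induction Ls with
  | nil => intros; rfl
  | cons b B ih =>
    intro hM hp f
    obtain ⟨hb, hB⟩ := List.pairwise_cons.1 hp
    have hbM := hM b (List.mem_cons_self ..)
    have ih' := ih (fun x hx => hM x (List.mem_cons_of_mem _ hx)) hB
    have hcomm := shift_tOp C L hbM (Ls := B) fun x hx =>
      ⟨hM x (List.mem_cons_of_mem _ hx), by rw [L.ip_comm]; exact hb x hx⟩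
    rw [tOp_cons, tOp_cons, tOp_add, shift_add, hcomm, ← hcomm, ih']
    simp only [← hcomm, ih', shift_shift C L hbM, add_zero]
    funext k
    simp only [Pi.add_apply]
    rw [add_assoc, CharTwo.add_self_eq_zero, add_zero]

include L in
/-- The homology of `1 + T` at one root of the list. -/
theorem exists_solution {A B : List (Fin D.nroots)} {b : Fin D.nroots}
    (hM : ∀ x ∈ A ++ b :: B, V.inM x)
    (hp : (A ++ b :: B).Pairwise fun a b : Fin D.nroots => ip D a b = 0) {f : Fin D.nroots → F}
    (hf : Supp V f) (hfix : tOp C V (A ++ b :: B) f = f) :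
    ∃ g, Supp V g ∧ tOp C V (A ++ b :: B) g + g = fun k : Fin D.nroots => if ip D b k = 0 then 0 else f k := by
  obtain ⟨hA, hbB, hAbB⟩ := List.pairwise_append.1 hp
  obtain ⟨hb, hB⟩ := List.pairwise_cons.1 hbB
  have hbM := hM b (by simp)
  have hnM := inM_negF C L hbM
  have hpM : (A ++ B).Pairwise fun a b : Fin D.nroots => ip D a b = 0 :=
    List.pairwise_append.2 ⟨hA, hB, fun x hx y hy => hAbB x hx y (List.mem_cons_of_mem _ hy)⟩
  have hMM : ∀ x ∈ A ++ B, V.inM x := fun x hx => hM x (by
    rcases List.mem_append.1 hx with h | h <;> simp [h])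
  have hbA : ∀ x ∈ A, V.inM x ∧ ip D x b = 0 := fun x hx =>
    ⟨hM x (by simp [hx]), hAbB x hx b (List.mem_cons_self ..)⟩
  have hnAB : ∀ x ∈ A ++ B, V.inM x ∧ ip D x (negF C b) = 0 := fun x hx => by
    refine ⟨hMM x hx, ?_⟩
    rw [L.ip_comm, ip_negF C L, neg_eq_zero]
    rcases List.mem_append.1 hx with h | h
    · rw [L.ip_comm]; exact (hbA x h).2
    · exact hb x h
  set M : (Fin D.nroots → F) → (Fin D.nroots → F) := tOp C V (A ++ B) with hMdef
  have hMM' : ∀ h, M (M h) = h := tOp_tOp C L hMM hpM
  have hT : ∀ h, tOp C V (A ++ b :: B) h = M h + shift C V b (M h) := fun h => by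
    rw [hMdef, tOp_append, tOp_append, tOp_cons, tOp_add, shift_tOp C L hbM hbA]
  have hMf : M f = f + shift C V b f := by
    have h1 := hT f
    rw [hfix] at h1
    conv_rhs => rw [h1]
    rw [shift_add, shift_shift C L hbM, add_zero, add_assoc]
    funext k
    simp only [Pi.add_apply, CharTwo.add_self_eq_zero, add_zero]
  refine ⟨M (shift C V (negF C b) f), supp_tOp C (supp_shift C _ _), ?_⟩
  have hN : M (shift C V (negF C b) f) = shift C V (negF C b) (M f) :=
    (shift_tOp C L hnM hnAB f).symm
  rw [hT, hMM', hN, hMf, shift_add, ← shift_sum C L hbM hf]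
  funext k
  simp only [Pi.add_apply]
  linear_combination CharTwo.add_self_eq_zero (shift C V (negF C b) f k)

end CfsgLib.InvolLaced
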